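import Groth.Agent.Lib.RootDatum.PosSys

/-! Bases of a root pairing as systems of simple roots. -/

noncomputable section

open Groth.Agent.Lib.RootDatum.Basic Groth.Agent.Lib.RootDatum.PosSys

namespace Groth.Agent.H84.BaseBridge

variable {ι R M N : Type*} [CommRing R] [AddCommGroup M] [Module R M] [AddCommGroup N] [Module R N]
  {P : RootPairing ι R M N}

lemma isSimpleSys (b : P.Base) : RootD.IsSimpleSys P (b.support : Set ι) :=
  ⟨b.linearIndepOn_root, b.root_mem_or_neg_mem⟩

variable [IsDomain R] [CharZero R] [P.IsCrystallographic] [Finite ι]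

lemma height_nonneg_of_mem (b : P.Base) {i : ι} (h : i ∈ RootD.posOf P (b.support : Set ι)) :
    0 ≤ b.height i := by
  classical
  obtain ⟨c, hc, hnn, heq⟩ := exists_comb (P := P) h
  rw [RootPairing.Base.height_eq_sum (f := fun j => c j) ?_]
  · exact Finset.sum_nonneg fun j _ => hnn j
  · rw [← heq, Finsupp.linearCombination_apply, Finsupp.sum]
    refine Finset.sum_subset (by exact_mod_cast hc) fun j _ hj => ?_
    rw [Finsupp.notMem_support_iff.mp hj, zero_smul]

lemma isPos_iff_mem (b : P.Base) (i : ι) :
    b.IsPos i ↔ i ∈ RootD.posOf P (b.support : Set ι) := by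
  rw [b.isPos_iff']
  refine ⟨fun h => ?_, height_nonneg_of_mem b⟩
  rcases (isPosSys_posOf (isSimpleSys b)).cover i with h' | h'
  · exact h'
  · exfalso
    have h1 := height_nonneg_of_mem b h'
    let := P.indexNeg
    have h2 : b.height (P.reflectionPerm i i) = -b.height i := b.height_reflectionPerm_self i
    rw [h2] at h1
    have := b.height_ne_zero i
    lia

end Groth.Agent.H84.BaseBridge
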