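import Mathlib.Data.Set.Image
import Mathlib.Algebra.Group.Action.Defs
import Mathlib.Algebra.Group.Action.Basic

namespace Groth.Agent.H84.ActImage

variable {G α : Type*} [Group G] [MulAction G α]

theorem image_mul (g h : G) (S : Set α) :
    (fun i : α => (g * h) • i) '' S = (fun i : α => g • i) '' ((fun i : α => h • i) '' S) := by
  rw [Set.image_image]
  exact Set.image_congr fun i _ => mul_smul g h i

theorem image_inv (g : G) (S : Set α) :
    (fun i : α => g⁻¹ • i) '' ((fun i : α => g • i) '' S) = S := by
  rw [← image_mul, inv_mul_cancel]
  simpa using Set.image_id' S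

theorem image_inv' (g : G) (S : Set α) :
    (fun i : α => g • i) '' ((fun i : α => g⁻¹ • i) '' S) = S := by
  rw [← image_mul, mul_inv_cancel]
  simpa using Set.image_id' S

end Groth.Agent.H84.ActImage
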