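import Groth.Agent.Lib.RootDatum.Length
import Mathlib.Algebra.Order.Star.Real
import Mathlib.Analysis.Matrix.PosDef
import Mathlib.LinearAlgebra.Matrix.PosDef

/-! Symmetrisation of Cartan matrices of independent sets of roots. -/

noncomputable section

open Set Function Module Matrix
open Groth.Agent.Lib.RootDatum Groth.Agent.Lib.RootDatum.Basic Groth.Agent.Lib.RootDatum.PosSys

namespace Groth.Agent.H84.CartanSym

variable {ι M N : Type*} [AddCommGroup M] [AddCommGroup N] (P : RootPairing ι ℤ M N) [Finite ι]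

theorem exists_sym_posDef (Δ : Finset ι) (hli : LinearIndepOn ℤ P.root (↑Δ : Set ι)) :
    ∃ m : ↥Δ → ℤ, (∀ a, 0 < m a) ∧
      (Matrix.of fun (a b : ↥Δ) => m a * P.pairing (b : ι) (a : ι)).IsSymm ∧
      (Matrix.of fun (a b : ↥Δ) => m a * P.pairing (b : ι) (a : ι)).PosDef := by
  classical
  haveI := Fintype.ofFinite ι
  have hentry : ∀ a b : ↥Δ, bz P (a : ι) a * P.pairing (b : ι) (a : ι) = 2 * bz P (a : ι) b := by
    intro a b
    rw [← cast_pz P (b : ι) a, Int.cast_id, bz_comm P (a : ι) b, two_mul_bz, mul_comm]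
  refine ⟨fun a => bz P (a : ι) a, fun a => bz_self_pos P _, ?_, ?_⟩
  · refine Matrix.IsSymm.ext fun a b => ?_
    simp only [Matrix.of_apply]
    rw [hentry, hentry, bz_comm]
  · refine Matrix.PosDef.of_dotProduct_mulVec_pos ?_ fun z hz => ?_
    · ext a b
      simp only [Matrix.conjTranspose_apply, Matrix.of_apply, star_trivial]
      rw [hentry, hentry, bz_comm]
    · have e : star z ⬝ᵥ (Matrix.of fun (a b : ↥Δ) =>
          bz P (a : ι) a * P.pairing (b : ι) (a : ι)) *ᵥ z =
          2 * ∑ k, (∑ a : ↥Δ, z a * pz P (a : ι) k) * (∑ a : ↥Δ, z a * pz P (a : ι) k) := by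
        simp only [Matrix.mulVec, dotProduct, Matrix.of_apply, Pi.star_apply, star_trivial]
        simp only [hentry]
        simp only [bz, Finset.mul_sum, Finset.sum_mul]
        symm
        conv_lhs => rw [Finset.sum_comm]
        conv_lhs => enter [2, a]; rw [Finset.sum_comm]
        rw [Finset.sum_comm]
        exact Finset.sum_congr rfl fun a _ => Finset.sum_congr rfl fun b _ =>
          Finset.sum_congr rfl fun k _ => by ring
      rw [e]
      refine mul_pos two_pos (lt_of_le_of_ne (Finset.sum_nonneg fun k _ => mul_self_nonneg _) ?_)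
      intro h0
      have hk : ∀ k, ∑ a : ↥Δ, z a * pz P (a : ι) k = 0 := fun k => mul_self_eq_zero.mp
        ((Finset.sum_eq_zero_iff_of_nonneg fun k _ => mul_self_nonneg _).mp h0.symm k
          (Finset.mem_univ _))
      have hv : ∑ a : ↥Δ, z a • P.root a = 0 := by
        refine eq_zero_of_mem_span_of_coroot'_eq_zero P ?_ fun k => ?_
        · exact Submodule.sum_mem _ fun a _ =>
            Submodule.smul_mem _ _ (Submodule.subset_span (mem_range_self _))
        · rw [map_sum]
          simp only [map_zsmul, coroot'_root, Int.cast_id, smul_eq_mul]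
          exact hk k
      exact hz (funext fun a => Fintype.linearIndependent_iff.mp hli z hv a)

theorem det_pos (Δ : Finset ι) (hli : LinearIndepOn ℤ P.root (↑Δ : Set ι)) [DecidableEq ↥Δ] :
    0 < Matrix.det (Matrix.of fun (a b : ↥Δ) => P.pairing (b : ι) (a : ι)) := by
  obtain ⟨m, hm, hsym, hpd⟩ := exists_sym_posDef P Δ hli
  set A : Matrix ↥Δ ↥Δ ℤ := Matrix.of fun (a b : ↥Δ) => m a * P.pairing (b : ι) (a : ι) with hA
  have hdet : A.det = (∏ a, m a) * Matrix.det (Matrix.of fun (a b : ↥Δ) => P.pairing (b : ι) (a : ι)) := by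
    rw [← Matrix.det_mul_column]
    rfl
  have hne : A.det ≠ 0 := by
    intro h0
    obtain ⟨z, hz, hz'⟩ := Matrix.exists_mulVec_eq_zero_iff.mpr h0
    have := hpd.dotProduct_mulVec_pos hz
    rw [hz', dotProduct_zero] at this
    exact lt_irrefl _ this
  let AR : Matrix ↥Δ ↥Δ ℝ := (Int.castRingHom ℝ).mapMatrix A
  have hcastdet : AR.det = (A.det : ℝ) := ((Int.castRingHom ℝ).map_det A).symm
  haveI := Fintype.ofFinite ι
  have hent : ∀ a b : ↥Δ, (bz P (a : ι) a : ℤ) * P.pairing (b : ι) (a : ι) = 2 * bz P (a : ι) b := by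
    intro a b
    rw [← cast_pz P (b : ι) a, Int.cast_id, bz_comm P (a : ι) b, two_mul_bz, mul_comm]
  let W : Matrix ↥Δ ι ℝ := Matrix.of fun a k => (pz P (a : ι) k : ℝ)
  have hW : ((Int.castRingHom ℝ).mapMatrix
      (Matrix.of fun (a b : ↥Δ) => bz P (a : ι) a * P.pairing (b : ι) (a : ι))) =
      (2 : ℝ) • (W * W.conjTranspose) := by
    ext a b
    rw [RingHom.mapMatrix_apply, Matrix.map_apply, Matrix.of_apply, hent]
    simp [Matrix.mul_apply, bz, W, Matrix.smul_apply]
  have hpos : 0 ≤ ((Matrix.of fun (a b : ↥Δ) => bz P (a : ι) a * P.pairing (b : ι) (a : ι)).det : ℤ) := by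
    have h1 := ((Matrix.posSemidef_self_mul_conjTranspose W).smul (by norm_num : (0:ℝ) ≤ 2)).det_nonneg
    rw [← hW, ← RingHom.map_det, eq_intCast] at h1
    exact_mod_cast h1
  have hdet2 : (Matrix.of fun (a b : ↥Δ) => bz P (a : ι) a * P.pairing (b : ι) (a : ι)).det =
      (∏ a : ↥Δ, bz P (a : ι) a) * Matrix.det (Matrix.of fun (a b : ↥Δ) => P.pairing (b : ι) (a : ι)) := by
    rw [← Matrix.det_mul_column]; rfl
  rw [hdet2] at hpos
  have hne2 : Matrix.det (Matrix.of fun (a b : ↥Δ) => P.pairing (b : ι) (a : ι)) ≠ 0 :=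
    fun h => hne (by rw [hdet, h, mul_zero])
  exact lt_of_le_of_ne ((mul_nonneg_iff_of_pos_left
    (Finset.prod_pos fun a _ => bz_self_pos P _)).mp hpos) hne2.symm

end Groth.Agent.H84.CartanSym
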