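import Groth.Agent.Lib.RootDatum.Length

/-! Dominant homomorphisms on the weight lattice of a root datum. -/

noncomputable section

open Set Function Module
open Groth.Agent.Lib.RootDatum Groth.Agent.Lib.RootDatum.Basic Groth.Agent.Lib.RootDatum.PosSys

set_option linter.unusedSectionVars false
set_option linter.style.haveILetI false

namespace Groth.Agent.H84.DomHom

variable {ι M N : Type*} [AddCommGroup M] [AddCommGroup N] (P : RootPairing ι ℤ M N) [Fintype ι]
  {S : Set ι} (hS : RootD.IsPosSys P S)

open Classical in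
/-- the sum of the positive roots -/
def rho (S : Set ι) : M := ∑ j ∈ Finset.univ.filter (fun j => j ∈ S), P.root j

include hS

lemma bz_rho_pos {k : ι} (hk : k ∈ S) :
    0 < P.RootForm (P.root k) (rho P S) := by
  classical
  have hΔ := isSimpleSys_simples P hS
  have hadd : ∀ i j l, P.root l = P.root i + P.root j →
      P.RootForm (P.root l) (rho P S) = P.RootForm (P.root i) (rho P S) +
        P.RootForm (P.root j) (rho P S) := fun i j l h => by rw [h, map_add, LinearMap.add_apply]
  have hsimple : ∀ a ∈ simples P S, 0 < P.RootForm (P.root a) (rho P S) := by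
    intro a ha
    have hsum : 0 < ∑ j ∈ Finset.univ.filter (fun j => j ∈ S), pz P j a := by
      rw [← Finset.sum_filter_add_sum_filter_not _ (fun j => j ≠ a ∧ P.root j ≠ (2 : ℕ) • P.root a)]
      have h1 : (Finset.univ.filter (fun j => j ∈ S)).filter
          (fun j => j ≠ a ∧ P.root j ≠ (2 : ℕ) • P.root a) = Length.others P (simples P S) a := by
        ext j; simp [Length.others, posOf_simples P hS]
      rw [h1, Length.sum_others_left P hΔ ha, zero_add]
      refine Finset.sum_pos (fun j hj => ?_) ⟨a, by simp [ha.1]⟩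
      simp only [Finset.mem_filter, Finset.mem_univ, true_and, not_and, ne_eq, not_not] at hj
      by_cases hja : j = a
      · subst hja; simp
      · rw [pz_eq_of_root_eq P (i := a) (z := (2 : ℤ)) (by rw [hj.2 hja, two_zsmul, two_nsmul])]
        simp
    have h2 : 2 * P.RootForm (P.root a) (rho P S) =
        (∑ j ∈ Finset.univ.filter (fun j => j ∈ S), pz P j a) * bz P a a := by
      rw [rho, map_sum, Finset.mul_sum, Finset.sum_mul]
      exact Finset.sum_congr rfl fun j _ => by rw [← cast_bz, bz_comm]; exact two_mul_bz P j a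
    have := mul_pos hsum (bz_self_pos P a)
    lia
  exact natSpan_induction P (p := fun k => 0 < P.RootForm (P.root k) (rho P S)) hsimple
    (fun k j a ha h _ ih => by rw [hadd j a k h]; exact add_pos ih (hsimple a ha))
    (mem_natSpan_simples P (posSys_disjoint P hS) (isClosed_of_isPosSys P hS) hk)

lemma coroot'_rho_pos {k : ι} (hk : k ∈ S) : 0 < P.coroot' k (rho P S) := by
  classical
  have h2 : 2 * P.RootForm (P.root k) (rho P S) = P.coroot' k (rho P S) * bz P k k := by
    rw [rho, map_sum, map_sum, Finset.mul_sum, Finset.sum_mul]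
    exact Finset.sum_congr rfl fun j _ => by
      rw [← cast_bz, bz_comm, coroot'_root]; exact two_mul_bz P j k
  have := bz_rho_pos P hS hk
  have := bz_self_pos P k
  by_contra hcon
  have : P.coroot' k (rho P S) * bz P k k ≤ 0 :=
    mul_nonpos_of_nonpos_of_nonneg (not_lt.mp hcon) (by lia)
  lia

variable {Γ : Type*} [AddCommGroup Γ] [LinearOrder Γ] [IsOrderedAddMonoid Γ]

omit hS in
lemma nonneg_of_zsmul_nonneg {c : ℤ} (hc : 0 < c) {x : Γ} (h : 0 ≤ c • x) : 0 ≤ x := by
  by_contra hx
  obtain ⟨n, rfl⟩ : ∃ n : ℕ, c = (n : ℤ) + 1 := ⟨(c - 1).toNat, by lia⟩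
  rw [add_smul, one_smul, natCast_zsmul] at h
  exact absurd h (not_le.mpr (add_neg_of_nonpos_of_neg (nsmul_nonpos (not_le.mp hx).le n)
    (not_le.mp hx)))

lemma exists_dominant (f : M →+ Γ) :
    ∃ g : P.Aut, g ∈ P.weylGroup ∧ ∀ i ∈ S, 0 ≤ f (g • P.root i) := by
  haveI := Weyl.finite_weylGroup P
  obtain ⟨⟨g, hg⟩, hmax⟩ := Finite.exists_max (fun g : P.weylGroup => f ((g : P.Aut) • rho P S))
  refine ⟨g, hg, fun i hi => nonneg_of_zsmul_nonneg (coroot'_rho_pos P hS hi) ?_⟩
  have := hmax ⟨g * Weyl.refl P i, mul_mem hg (P.reflection_mem_weylGroup i)⟩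
  change f ((g * Weyl.refl P i) • rho P S) ≤ f (g • rho P S) at this
  rwa [mul_smul, reflection_smul_weight, smul_sub, smul_comm, map_sub, map_zsmul,
    sub_le_self_iff] at this

lemma exists_dominant_weight (m : M) :
    ∃ g : P.Aut, g ∈ P.weylGroup ∧ ∀ i ∈ S, 0 ≤ P.coroot' i (g • m) := by
  haveI := Weyl.finite_weylGroup P
  obtain ⟨⟨g, hg⟩, hmax⟩ := Finite.exists_max
    (fun g : P.weylGroup => P.RootForm ((g : P.Aut) • m) (rho P S))
  refine ⟨g, hg, fun i hi => ?_⟩
  have := hmax ⟨Weyl.refl P i * g, mul_mem (P.reflection_mem_weylGroup i) hg⟩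
  change P.RootForm ((Weyl.refl P i * g) • m) (rho P S) ≤ P.RootForm (g • m) (rho P S) at this
  rw [mul_smul, reflection_smul_weight, LinearMap.map_sub₂, LinearMap.map_smul₂, smul_eq_mul,
    sub_le_self_iff] at this
  exact (mul_nonneg_iff_of_pos_right (bz_rho_pos P hS hi)).mp this

lemma fixed_of_dominant {f : M →+ Γ} {g : P.Aut} (hg : g ∈ P.weylGroup)
    (h1 : ∀ i ∈ S, 0 ≤ f (P.root i)) (h2 : ∀ i ∈ S, 0 ≤ f (g • P.root i)) (m : M) :
    f (g • m) = f m := by
  have hΔ := isSimpleSys_simples P hS
  rw [← Weyl.genBy_simple hΔ] at hg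
  obtain ⟨l, hl, rfl, hmin⟩ := Weyl.exists_minimal_word P hg
  clear hg
  induction l using List.reverseRecOn generalizing m with
  | nil => simp [Weyl.wordProd]
  | append_singleton t a ih =>
    have ha := hl a (by simp)
    have ht : ∀ b ∈ t, b ∈ simples P S := fun b hb => hl b (by simp [hb])
    have hs : Weyl.wordProd P (t ++ [a]) = Weyl.wordProd P t * Weyl.refl P a := by
      simp [Weyl.wordProd]
    have hpos := Weyl.posOf_of_minimal hΔ subset_rfl ht ha hmin
    rw [posOf_simples P hS] at hpos
    have hge := h1 _ hpos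
    rw [root_smul] at hge
    have hle := h2 a ha.1
    rw [hs, mul_smul, reflection_smul_weight, coroot'_root, pz_self, smul_sub, smul_comm, map_sub,
      map_zsmul, Int.cast_id, two_zsmul, sub_add_cancel_left, Left.nonneg_neg_iff] at hle
    have hzero : f (Weyl.wordProd P t • P.root a) = 0 := le_antisymm hle hge
    have hstep : ∀ m : M, f (Weyl.wordProd P (t ++ [a]) • m) = f (Weyl.wordProd P t • m) := fun m => by
      rw [hs, mul_smul, reflection_smul_weight, smul_sub, smul_comm, map_sub, map_zsmul, hzero,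
        smul_zero, sub_zero]
    rw [hstep]
    refine ih m ht (fun i hi => ?_) fun l' e1 e2 => ?_
    · rw [← hstep]; exact h2 i hi
    · have := hmin (l' ++ [a]) (by simpa [or_imp, forall_and, ha] using e1)
        (by simp [Weyl.wordProd] at e2 ⊢; rw [e2])
      simpa using this

omit hS in
open Classical in
lemma sum_list {L : List (ι × ι)} (m : M) (f : M →+ Γ) :
    f (L.map fun p => P.coroot' p.1 m • P.root p.2).sum =
      ∑ i, P.coroot' i m • ((L.filter fun p => decide (p.1 = i)).map fun p => f (P.root p.2)).sum := by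
  classical
  induction L with
  | nil => simp
  | cons p L ih =>
    rw [List.map_cons, List.sum_cons, map_add, map_zsmul, ih]
    have : ∀ i, (((p :: L).filter fun q => decide (q.1 = i)).map fun q => f (P.root q.2)).sum =
        (if p.1 = i then f (P.root p.2) else 0) +
          ((L.filter fun q => decide (q.1 = i)).map fun q => f (P.root q.2)).sum := fun i => by
      by_cases h : p.1 = i <;> simp [List.filter_cons, h]
    simp only [this, smul_add, Finset.sum_add_distrib, smul_ite, smul_zero, Finset.sum_ite_eq,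
      Finset.mem_univ, if_true]

open Classical in
lemma sub_smul_eq {f : M →+ Γ} (h1 : ∀ i ∈ S, 0 ≤ f (P.root i)) {g : P.Aut} (hg : g ∈ P.weylGroup) :
    ∃ c : ι → Γ, (∀ i, 0 ≤ c i) ∧ (∀ i, i ∉ S → c i = 0) ∧
      ∀ m : M, f m - f (g • m) = ∑ i, P.coroot' i m • c i := by
  classical
  have hΔ := isSimpleSys_simples P hS
  rw [← Weyl.genBy_simple hΔ] at hg
  obtain ⟨l, hl, rfl, hmin⟩ := Weyl.exists_minimal_word P hg
  obtain ⟨L, hL1, hL2, hL3⟩ := Weyl.exists_sub_smul_eq hΔ subset_rfl l hl hmin
  refine ⟨fun i => ((L.filter fun p => decide (p.1 = i)).map fun p => f (P.root p.2)).sum,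
    fun i => List.sum_nonneg fun x hx => ?_, fun i hi => ?_, fun m => ?_⟩
  · obtain ⟨p, hp, rfl⟩ := List.mem_map.mp hx
    refine h1 _ ?_
    rw [← posOf_simples P hS]
    exact (hL2 p (List.mem_of_mem_filter hp)).1
  · have : (L.filter fun p => decide (p.1 = i)) = [] := by
      rw [List.filter_eq_nil_iff]
      intro p hp
      simp only [decide_eq_true_eq]
      rintro rfl
      have : p.1 ∈ l := hL1 ▸ List.mem_map_of_mem hp
      exact hi (hl _ this).1
    simp [this]
  · rw [← map_sub, hL3 m, sum_list]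

end Groth.Agent.H84.DomHom
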