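import Groth.Agent.Lib.RootDatum.Length

/-! The simple roots of the dual root datum. -/

noncomputable section

open Set Function
open scoped Classical
open Groth.Agent.Lib.RootDatum Groth.Agent.Lib.RootDatum.Basic Groth.Agent.Lib.RootDatum.PosSys

namespace Groth.Agent.H84.DualSimple

variable {ι M N : Type*} [AddCommGroup M] [AddCommGroup N] (P : RootPairing ι ℤ M N) [Finite ι]

lemma exists_dual (i : ι) :
    (RootD.IsIndiv P.flip i ∧ ∀ j, (2 : ℤ) • P.coroot j ≠ P.coroot i) ∨
      ∃ j, (2 : ℤ) • P.coroot j = P.coroot i := by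
  by_cases h : ∃ j, (2 : ℤ) • P.coroot j = P.coroot i
  · exact Or.inr h
  · push Not at h
    exact Or.inl ⟨h, h⟩

/-- The simple coroot attached to a simple root, and its multiplicity. -/
def dual (i : ι) : ι × ℤ :=
  if h : ∃ j, (2 : ℤ) • P.coroot j = P.coroot i then (h.choose, 2) else (i, 1)

omit [Finite ι] in
lemma dual_spec (i : ι) : (dual P i).2 • P.coroot (dual P i).1 = P.coroot i ∧
    ((dual P i).2 = 1 ∨ (dual P i).2 = 2) ∧ (RootD.IsIndiv P.flip i → (dual P i).2 = 1) := by
  unfold dual
  split_ifs with h
  · exact ⟨h.choose_spec, Or.inr rfl, fun hi => absurd h.choose_spec (hi _)⟩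
  · exact ⟨one_smul _ _, Or.inl rfl, fun _ => rfl⟩

/-- The set in the statement. -/
abbrev dualSet (Δ : Set ι) : Set ι :=
  {j : ι | ∃ i ∈ Δ, (j = i ∧ RootD.IsIndiv P.flip i) ∨ (2 : ℤ) • P.coroot j = P.coroot i}

lemma root_of_mem {i j : ι} (h : (2 : ℤ) • P.coroot j = P.coroot i) :
    P.root j = (2 : ℕ) • P.root i := by
  refine (coroot_of_root_double P.flip (i := j) (l := i) ?_).symm
  change P.coroot i = (2 : ℕ) • P.coroot j
  rw [← h, ← natCast_zsmul]
  rfl

variable {P}
variable {Δ : Set ι} (hΔ : RootD.IsSimpleSys P Δ)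
include hΔ

lemma dual_mem {i : ι} (hi : i ∈ Δ) : (dual P i).1 ∈ dualSet P Δ := by
  refine ⟨i, hi, ?_⟩
  unfold dual
  split_ifs with h
  · exact Or.inr h.choose_spec
  · exact Or.inl ⟨rfl, fun j e => h ⟨j, e⟩⟩

/-- The coefficient relation between roots and coroots. -/
lemma coroot_rel [Fintype ι] (k : ι) :
    bz P k k • P.coroot k =
      Finsupp.linearCombination ℤ P.coroot ((coeff hΔ k).sum fun a c => Finsupp.single a (c * bz P a a)) := by
  rw [Finsupp.sum, map_sum, Length.bz_zsmul_coroot, ← comb_coeff hΔ k, Finsupp.linearCombination_apply,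
    Finsupp.sum, map_sum, Finset.smul_sum]
  refine Finset.sum_congr rfl fun a _ => ?_
  rw [Finsupp.linearCombination_single, mul_smul, Length.bz_zsmul_coroot, map_zsmul, smul_comm]

lemma eq_or_double {b : ι} {i : ι} (hb : b ∈ RootD.posOf P Δ)
    (h : ∀ a, a ≠ i → coeff hΔ b a = 0) : b = i ∨ P.root b = (2 : ℕ) • P.root i := by
  have hs : coeff hΔ b = Finsupp.single i (coeff hΔ b i) := Finsupp.ext fun a => by
    by_cases ha : i = a
    · subst ha; simp
    · rw [h a (Ne.symm ha)]; simp [ha]
  obtain ⟨n, hn⟩ := Int.eq_ofNat_of_zero_le ((mem_posOf_iff hΔ).mp hb i)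
  have hroot : P.root b = n • P.root i := by
    rw [← comb_coeff hΔ b, hs, Finsupp.linearCombination_single, hn, natCast_zsmul]
  rcases nat_multiple_mem P hroot with ⟨-, e⟩ | e
  · exact Or.inl e
  · exact Or.inr (e ▸ hroot)

theorem dualSet_eq : dualSet P Δ = simples P.flip (RootD.posOf P Δ) := by
  haveI := Fintype.ofFinite ι
  haveI := isAddTorsionFree_coweight P
  haveI := isAddTorsionFree_weight P
  have hS := Length.isPosSys_flip P (isPosSys_posOf hΔ)
  have hle : dualSet P Δ ⊆ simples P.flip (RootD.posOf P Δ) := by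
    rintro x ⟨i, hi, hx⟩
    obtain ⟨m, hm, hxr⟩ : ∃ m : ℕ, 0 < m ∧ P.root x = m • P.root i := by
      rcases hx with ⟨rfl, -⟩ | hx
      · exact ⟨1, one_pos, (one_smul _ _).symm⟩
      · exact ⟨2, two_pos, root_of_mem P hx⟩
    refine ⟨?_, ?_⟩
    · change P.root x ∈ RootD.natSpan P Δ
      rw [hxr]; exact nsmul_mem (root_mem_natSpan P hi) m
    rintro ⟨b, c, hb, hc, e⟩
    have e' : P.coroot x = P.coroot b + P.coroot c := e
    have hrel : (bz P b b * bz P c c) • P.root x =
        (bz P x x * bz P c c) • P.root b + (bz P x x * bz P b b) • P.root c := by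
      rw [← sub_eq_zero]
      refine Length.polarization_injOn P ?_ ?_
      · exact Submodule.sub_mem _ (Submodule.smul_mem _ _ (Submodule.subset_span (mem_range_self _)))
          (Submodule.add_mem _ (Submodule.smul_mem _ _ (Submodule.subset_span (mem_range_self _)))
            (Submodule.smul_mem _ _ (Submodule.subset_span (mem_range_self _))))
      · refine nsmul_eq_zero_weight P.flip (two_ne_zero) ?_
        rw [map_sub, map_add, map_zsmul, map_zsmul, map_zsmul, smul_sub, smul_add, smul_comm,
          ← Length.bz_zsmul_coroot, smul_comm (2 : ℕ) (bz P x x * bz P c c), ← Length.bz_zsmul_coroot,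
          smul_comm (2 : ℕ) (bz P x x * bz P b b), ← Length.bz_zsmul_coroot, smul_smul, smul_smul,
          smul_smul, e']
        module
    have hzero : ∀ a, a ≠ i → coeff hΔ b a = 0 ∧ coeff hΔ c a = 0 := by
      intro a ha
      have h0 : coeff hΔ x a = 0 := by
        have hh : coeff hΔ x = (m : ℤ) • coeff hΔ i := by
          refine coeff_eq hΔ ((Finset.coe_subset.mpr Finsupp.support_smul).trans (coeff_support hΔ i)) ?_
          rw [map_zsmul, comb_coeff, hxr, natCast_zsmul]
        rw [hh, coeff_self hΔ hi]; simp [Ne.symm ha]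
      have hcomb := congrArg (fun c : ι →₀ ℤ => c a) (comb_inj hΔ
        (c := (bz P b b * bz P c c) • coeff hΔ x)
        (d := (bz P x x * bz P c c) • coeff hΔ b + (bz P x x * bz P b b) • coeff hΔ c)
        ((Finset.coe_subset.mpr Finsupp.support_smul).trans (coeff_support hΔ x))
        ((Finset.coe_subset.mpr Finsupp.support_add).trans (by
          rw [Finset.coe_union]
          exact union_subset ((Finset.coe_subset.mpr Finsupp.support_smul).trans (coeff_support hΔ b))
            ((Finset.coe_subset.mpr Finsupp.support_smul).trans (coeff_support hΔ c))))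
        (by rw [map_zsmul, map_add, map_zsmul, map_zsmul, comb_coeff, comb_coeff, comb_coeff, hrel]))
      simp only [Finsupp.smul_apply, Finsupp.add_apply, smul_eq_mul, h0, mul_zero] at hcomb
      have h1 : 0 < bz P x x * bz P c c := mul_pos (bz_self_pos P x) (bz_self_pos P c)
      have h2 : 0 < bz P x x * bz P b b := mul_pos (bz_self_pos P x) (bz_self_pos P b)
      have hb0 := (mem_posOf_iff hΔ).mp hb a
      have hc0 := (mem_posOf_iff hΔ).mp hc a
      constructor <;> nlinarith [mul_nonneg h1.le hb0, mul_nonneg h2.le hc0]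
    have hbm := eq_or_double hΔ hb fun a ha => (hzero a ha).1
    have hcm := eq_or_double hΔ hc fun a ha => (hzero a ha).2
    rcases hx with ⟨rfl, hind⟩ | hx
    · have hno : ∀ l, P.root l ≠ (2 : ℕ) • P.root x := fun l hl => hind l (by
        change (2 : ℤ) • P.coroot l = P.coroot x
        have := coroot_of_root_double P hl
        rw [← natCast_zsmul] at this
        exact this)
      rw [hbm.resolve_right (hno b), hcm.resolve_right (hno c)] at e'
      exact P.flip.ne_zero x (left_eq_add.mp e')
    · have h1 : ∀ b, b = i ∨ P.root b = (2 : ℕ) • P.root i →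
          P.coroot b = (2 : ℤ) • P.coroot x ∨ P.coroot b = P.coroot x := fun b hb => by
        rcases hb with rfl | hb
        · exact Or.inl hx.symm
        · exact Or.inr (by rw [P.root.injective (hb.trans (root_of_mem P hx).symm)])
      have hx0 : P.coroot x ≠ 0 := P.flip.ne_zero x
      rcases h1 b hbm with h | h <;> rcases h1 c hcm with h' | h' <;> rw [h, h'] at e'
      · have : (3 : ℤ) • P.coroot x = 0 := by linear_combination (norm := module) -e'
        exact hx0 ((smul_eq_zero.mp this).resolve_left (by norm_num))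
      · exact hx0 ((smul_eq_zero.mp (show (2 : ℤ) • P.coroot x = 0 by
          linear_combination (norm := module) -e')).resolve_left (by norm_num))
      · exact hx0 ((smul_eq_zero.mp (show (2 : ℤ) • P.coroot x = 0 by
          linear_combination (norm := module) -e')).resolve_left (by norm_num))
      · exact hx0 (left_eq_add.mp e')
  refine Subset.antisymm hle fun x hx => ?_
  by_contra hnot
  have hli := (linearIndepOn_simples P.flip hS).restrict_scalars' ℤ
  have hmem : bz P x x • P.coroot x ∈ Submodule.span ℤ (P.coroot '' dualSet P Δ) := by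
    rw [coroot_rel hΔ x, Finsupp.sum, map_sum]
    refine Submodule.sum_mem _ fun a ha => ?_
    rw [Finsupp.linearCombination_single, ← (dual_spec P a).1]
    exact Submodule.smul_mem _ _ (Submodule.smul_mem _ _
      (Submodule.subset_span ⟨_, dual_mem hΔ (coeff_support hΔ x ha), rfl⟩))
  obtain ⟨l, hl, hle'⟩ := (Finsupp.mem_span_image_iff_linearCombination ℤ).mp hmem
  have h0 := linearIndepOn_iff.mp hli (l - Finsupp.single x (bz P x x))
    (Submodule.sub_mem _ (Finsupp.supported_mono hle hl) (Finsupp.single_mem_supported ℤ _ hx))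
    (by
      rw [map_sub, Finsupp.linearCombination_single]
      exact sub_eq_zero.mpr hle')
  have := DFunLike.congr_fun h0 x
  have hlx : l x = 0 := Finsupp.notMem_support_iff.mp fun h => hnot (hl h)
  simp [hlx, (bz_self_pos P x).ne'] at this

theorem isSimpleSys_dualSet : RootD.IsSimpleSys P.flip (dualSet P Δ) := by
  rw [dualSet_eq hΔ]
  exact isSimpleSys_simples P.flip (Length.isPosSys_flip P (isPosSys_posOf hΔ))

theorem dvd_coeff [Fintype ι] (k : ι) {i : ι} (hi : i ∈ Δ) :
    bz P k k ∣ coeff hΔ k i * bz P i i * (dual P i).2 := by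
  have hD := isSimpleSys_dualSet hΔ
  let d : ι → ι := fun a => (dual P a).1
  have hdinj : ∀ a ∈ Δ, ∀ a' ∈ Δ, d a = d a' → a = a' := by
    intro a ha a' ha' e
    have key : ∀ a, ∃ n : ℕ, 0 < n ∧ P.root (d a) = n • P.root a := fun a => by
      simp only [d]
      unfold dual
      split_ifs with h
      · exact ⟨2, two_pos, root_of_mem P h.choose_spec⟩
      · exact ⟨1, one_pos, (one_smul _ _).symm⟩
    obtain ⟨n, hn, h1⟩ := key a
    obtain ⟨n', -, h2⟩ := key a'
    rw [e] at h1
    have := comb_inj hΔ (c := Finsupp.single a (n : ℤ)) (d := Finsupp.single a' (n' : ℤ))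
      ((Finset.coe_subset.mpr Finsupp.support_single_subset).trans (by simp [ha]))
      ((Finset.coe_subset.mpr Finsupp.support_single_subset).trans (by simp [ha']))
      (by rw [Finsupp.linearCombination_single, Finsupp.linearCombination_single, natCast_zsmul,
        natCast_zsmul, ← h1, ← h2])
    exact (Finsupp.single_eq_single_iff _ _ _ _).mp this |>.elim (fun h => h.1)
      (fun h => absurd h.1 (by exact_mod_cast hn.ne'))
  let e : ι →₀ ℤ := ∑ a ∈ (coeff hΔ k).support,
    Finsupp.single (d a) (coeff hΔ k a * bz P a a * (dual P a).2)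
  have heq : bz P k k • coeff hD k = e := by
    refine comb_inj hD ((Finset.coe_subset.mpr Finsupp.support_smul).trans (coeff_support hD k)) ?_ ?_
    · have : e ∈ Finsupp.supported ℤ ℤ (dualSet P Δ) := Submodule.sum_mem _ fun a ha =>
        Finsupp.single_mem_supported ℤ _ (dual_mem hΔ (coeff_support hΔ k ha))
      exact this
    · rw [map_zsmul, comb_coeff]
      change bz P k k • P.coroot k = _
      rw [coroot_rel hΔ k, Finsupp.sum, map_sum, map_sum]
      refine Finset.sum_congr rfl fun a _ => ?_
      rw [Finsupp.linearCombination_single, Finsupp.linearCombination_single]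
      conv_lhs => rw [← (dual_spec P a).1, smul_smul]
      rfl
  refine ⟨coeff hD k (d i), ?_⟩
  have := congrArg (fun c : ι →₀ ℤ => c (d i)) heq
  simp only [Finsupp.smul_apply, smul_eq_mul, e, Finsupp.finsetSum_apply] at this
  rw [this, Finset.sum_eq_single i]
  · rw [Finsupp.single_eq_same]
  · intro a ha hne
    exact Finsupp.single_eq_of_ne fun h => hne (hdinj a (coeff_support hΔ k ha) i hi h.symm)
  · intro h
    rw [Finsupp.notMem_support_iff.mp h, zero_mul, zero_mul, Finsupp.single_zero, Finsupp.zero_apply]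

end Groth.Agent.H84.DualSimple
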