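import Groth.Agent.H25.Node.Basic
import Mathlib.RingTheory.OrderOfVanishing.Basic
import Mathlib.RingTheory.Nakayama

/-!
Torsion-free modules of rank one at a node: every ideal containing a regular element is
isomorphic either to the ring or to the maximal ideal.
-/

set_option autoImplicit false
set_option linter.style.haveILetI false
set_option linter.unusedSectionVars false
set_option maxHeartbeats 400000
universe u

open scoped nonZeroDivisors Pointwise

namespace Groth.Agent.H84.NodeIdeal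

open IsLocalRing Groth.Agent.H25.Node

variable {R : Type u} [CommRing R]

/-- A module with a torsion-free cyclic submodule of finite index is an ideal. -/
theorem exists_ideal_equiv {M : Type u} [AddCommGroup M] [Module R M]
    (htf : ∀ r ∈ R⁰, ∀ x : M, r • x = 0 → x = 0) (e : M)
    (hann : ∀ r : R, r • e = 0 → r = 0) {c : R} (hc : c ∈ R⁰)
    (hfull : ∀ x : M, c • x ∈ Submodule.span R {e}) :
    ∃ I : Ideal R, c ∈ I ∧ Nonempty (M ≃ₗ[R] I) := by
  choose φ hφ using fun x => Submodule.mem_span_singleton.1 (hfull x)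
  have huniq : ∀ a b : R, a • e = b • e → a = b := fun a b h =>
    sub_eq_zero.1 (hann _ (by rw [sub_smul, h, sub_self]))
  let f : M →ₗ[R] R :=
    { toFun := φ
      map_add' := fun x y => huniq _ _ (by rw [hφ, add_smul, hφ, hφ, smul_add])
      map_smul' := fun r x => huniq _ _ (by
        rw [RingHom.id_apply, hφ, smul_eq_mul, mul_smul, hφ, smul_comm]) }
  have hinj : Function.Injective f := (injective_iff_map_eq_zero f).2 fun x hx => htf c hc x (by
    rw [← hφ x, show φ x = 0 from hx, zero_smul])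
  exact ⟨LinearMap.range f, ⟨e, huniq _ _ (hφ e)⟩, ⟨LinearEquiv.ofInjective f hinj⟩⟩

/-- Principal ideals with a regular element are free. -/
theorem equiv_ring_of_principal {I : Ideal R} {g : R} (hgI : g ∈ I) (hg : g ∈ R⁰) {v : R}
    (hI : I = Ideal.span {v}) : Nonempty (I ≃ₗ[R] R) := by
  obtain ⟨r, hr⟩ := Ideal.mem_span_singleton'.1 (hI ▸ hgI)
  have hv : v ∈ R⁰ := (mul_mem_nonZeroDivisors.1 (hr ▸ hg)).2
  refine ⟨((LinearEquiv.ofInjective (LinearMap.toSpanSingleton R R v) ?_).trans
    (LinearEquiv.ofEq _ I ?_)).symm⟩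
  · exact (injective_iff_map_eq_zero _).2 fun a ha => mem_nonZeroDivisors_iff_right.1 hv a ha
  · exact hI ▸ LinearMap.range_toSpanSingleton v

/-- Two ideals with `t I = v J` for regular `t`, `v` are isomorphic. -/
theorem equiv_of_mul_eq {I J : Ideal R} {t v : R} (ht : t ∈ R⁰) (hv : v ∈ R⁰)
    (h : Ideal.span {t} * I = Ideal.span {v} * J) : Nonempty (I ≃ₗ[R] J) := by
  let f₁ : I →ₗ[R] R := (LinearMap.mulLeft R t).comp I.subtype
  let f₂ : J →ₗ[R] R := (LinearMap.mulLeft R v).comp J.subtype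
  have h₁ : Function.Injective f₁ := fun a b hab => Subtype.ext
    ((mul_cancel_left_mem_nonZeroDivisors ht).1 hab)
  have h₂ : Function.Injective f₂ := fun a b hab => Subtype.ext
    ((mul_cancel_left_mem_nonZeroDivisors hv).1 hab)
  have hr : LinearMap.range f₁ = LinearMap.range f₂ := by
    ext z
    have := SetLike.ext_iff.1 h z
    simp only [Ideal.mem_span_singleton_mul] at this
    simpa [f₁, f₂] using this
  exact ⟨((LinearEquiv.ofInjective f₁ h₁).trans (LinearEquiv.ofEq _ _ hr)).trans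
    (LinearEquiv.ofInjective f₂ h₂).symm⟩

theorem length_quot_lt {J₁ J₂ : Ideal R} (h : J₁ < J₂) :
    Module.length R (R ⧸ J₂) + 1 ≤ Module.length R (R ⧸ J₁) := by
  let g : (R ⧸ J₁) →ₗ[R] R ⧸ J₂ := (Ideal.Quotient.factorₐ R h.le).toLinearMap
  rw [Module.length_eq_add_of_exact (LinearMap.ker g).subtype g Subtype.val_injective
    (Ideal.Quotient.factor_surjective h.le) (LinearMap.exact_subtype_ker_map g)]
  obtain ⟨x, hx, hx'⟩ := SetLike.exists_of_lt h
  haveI : Nontrivial (LinearMap.ker g) := by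
    refine nontrivial_of_ne (⟨Ideal.Quotient.mk J₁ x, ?_⟩ : LinearMap.ker g) 0 fun h0 => hx' ?_
    · rw [LinearMap.mem_ker]
      exact Ideal.Quotient.eq_zero_iff_mem.2 hx
    · exact Ideal.Quotient.eq_zero_iff_mem.1 (congrArg Subtype.val h0)
  rw [add_comm]
  gcongr
  exact Order.one_le_iff_pos.2 Module.length_pos

/-- `len (R/tI) = len (R/I) + len (R/tR)` for regular `t`. -/
theorem length_quot_mul {t : R} (ht : t ∈ R⁰) (I : Ideal R) :
    Module.length R (R ⧸ Ideal.span {t} * I) =
      Module.length R (R ⧸ I) + Module.length R (R ⧸ Ideal.span {t}) := by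
  have hle : Ideal.span {t} * I ≤ Ideal.span {t} := Ideal.mul_le_left
  let f : (R ⧸ I) →ₗ[R] R ⧸ Ideal.span {t} * I :=
    Submodule.mapQ I (Ideal.span {t} * I) (LinearMap.mulLeft R t) fun x hx =>
      Ideal.mul_mem_mul (Ideal.mem_span_singleton_self t) hx
  refine Module.length_eq_add_of_exact f (Ideal.Quotient.factorₐ R hle).toLinearMap ?_
    (Ideal.Quotient.factor_surjective hle) ?_
  · refine (injective_iff_map_eq_zero f).2 fun z hz => ?_
    obtain ⟨z, rfl⟩ := Submodule.mkQ_surjective I z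
    obtain ⟨i, hi, he⟩ := Ideal.mem_span_singleton_mul.1
      ((Submodule.Quotient.mk_eq_zero _).1 hz)
    exact (Submodule.Quotient.mk_eq_zero _).2
      ((mul_cancel_left_mem_nonZeroDivisors ht).1 he ▸ hi)
  · intro z
    obtain ⟨z, rfl⟩ := Ideal.Quotient.mk_surjective z
    constructor
    · intro hz
      obtain ⟨r, rfl⟩ := Ideal.mem_span_singleton'.1 (Ideal.Quotient.eq_zero_iff_mem.1 hz)
      exact ⟨Submodule.Quotient.mk r, congrArg (Ideal.Quotient.mk _) (mul_comm t r)⟩
    · rintro ⟨w, hw⟩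
      obtain ⟨w, rfl⟩ := Submodule.mkQ_surjective I w
      rw [← hw]
      exact Ideal.Quotient.eq_zero_iff_mem.2
        (Ideal.mul_mem_right _ _ (Ideal.mem_span_singleton_self t))

variable [IsLocalRing R] [IsNoetherianRing R]

/-- With generators `s`, `u`, `s u ∈ m³`: `s + u` generates `m²` over `m`. -/
theorem sq_le_mul {s u : R} (hsu : Ideal.span {s, u} = maximalIdeal R)
    (hprod : s * u ∈ maximalIdeal R ^ 3) :
    maximalIdeal R ^ 2 ≤ Ideal.span {s + u} * maximalIdeal R := by
  refine Submodule.le_of_le_smul_of_le_jacobson_bot (IsNoetherian.noetherian _)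
    (maximalIdeal_le_jacobson _) ?_
  have hs := mem_left hsu
  have hu := mem_right hsu
  have h3 : maximalIdeal R • maximalIdeal R ^ 2 = maximalIdeal R ^ 3 :=
    (pow_succ' (maximalIdeal R) 2).symm
  rw [h3]
  refine (sq_le hsu).trans (sup_le (Ideal.span_le.2 ?_) le_sup_right)
  have ht : ∀ z ∈ maximalIdeal R, (s + u) * z ∈ Ideal.span {s + u} * maximalIdeal R := fun z hz =>
    Ideal.mul_mem_mul (Ideal.mem_span_singleton_self _) hz
  rintro _ ⟨i, rfl⟩
  fin_cases i
  · simpa [show s ^ 2 = (s + u) * s - s * u by ring] using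
      sub_mem (Submodule.mem_sup_left (ht s hs)) (Submodule.mem_sup_right hprod)
  · exact Submodule.mem_sup_right hprod
  · simpa [show u ^ 2 = (s + u) * u - s * u by ring] using
      sub_mem (Submodule.mem_sup_left (ht u hu)) (Submodule.mem_sup_right hprod)

theorem regular_of_sq_le {t f : R} (hsq : maximalIdeal R ^ 2 ≤ Ideal.span {t} * maximalIdeal R)
    (hfm : f ∈ maximalIdeal R) (hf : f ∈ R⁰) : t ∈ R⁰ := by
  refine mem_nonZeroDivisors_iff_right.2 fun r hr => ?_
  obtain ⟨z, -, hz⟩ := Ideal.mem_span_singleton_mul.1 (hsq (Ideal.pow_mem_pow hfm 2))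
  refine mem_nonZeroDivisors_iff_right.1 (pow_mem hf 2) r ?_
  rw [← hz, ← mul_assoc, hr, zero_mul]

/-- **Ideals at a node**: an ideal with a regular element is free or isomorphic to the maximal
ideal. -/
theorem equiv_ring_or_maximalIdeal [Ring.KrullDimLE 1 R] (hn : IsNodal R) {s u : R}
    (hsu : Ideal.span {s, u} = maximalIdeal R) (hprod : s * u ∈ maximalIdeal R ^ 3) {f : R}
    (hfm : f ∈ maximalIdeal R) (hf : f ∈ R⁰) (I : Ideal R) {g : R} (hgI : g ∈ I) (hg : g ∈ R⁰) :
    Nonempty (I ≃ₗ[R] R) ∨ Nonempty (I ≃ₗ[R] maximalIdeal R) := by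
  classical
  set m := maximalIdeal R
  have hsq := sq_le_mul hsu hprod
  set t := s + u with htdef
  have hts : Ideal.span {t, s} = m := by
    rw [← hsu]
    refine le_antisymm (Ideal.span_le.2 ?_) (Ideal.span_le.2 ?_) <;>
      simp [Set.insert_subset_iff, Ideal.mem_span_pair]
    · exact ⟨⟨1, 1, by ring⟩, ⟨1, 0, by ring⟩⟩
    · exact ⟨⟨0, 1, by ring⟩, ⟨1, -1, by ring⟩⟩
  have htm : t ∈ m := mem_left hts
  have hsm : s ∈ m := mem_right hts
  have ht : t ∈ R⁰ := regular_of_sq_le hsq hfm hf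
  -- the length of `R/I` is finite
  have hfin : Module.length R (R ⧸ I) ≠ ⊤ := by
    refine ne_top_of_le_ne_top ?_ (Module.length_le_of_surjective
      (Ideal.Quotient.factorₐ R ((Ideal.span_singleton_le_iff_mem I).2 hgI)).toLinearMap
      (Ideal.Quotient.factor_surjective ((Ideal.span_singleton_le_iff_mem I).2 hgI)))
    exact Module.length_ne_top_iff.2 (isFiniteLength_quotient_span_singleton R hg)
  -- `len (R/tR) ≤ 2`
  have hl2 : Module.length R (R ⧸ Ideal.span {t}) ≤ 2 := by
    have htle : Ideal.span {t} ≤ m := (Ideal.span_singleton_le_iff_mem _).2 htm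
    have hsq' : ∀ z ∈ m, z * s ∈ Ideal.span {t} := fun z hz =>
      Ideal.mul_le_left (J := maximalIdeal R) (hsq (by
        rw [pow_two]; exact Ideal.mul_mem_mul hz hsm))
    let ψ : (R ⧸ m) →ₗ[R] R ⧸ Ideal.span {t} :=
      Submodule.mapQ m (Ideal.span {t}) (LinearMap.mulRight R s) hsq'
    let φ : (R ⧸ Ideal.span {t}) →ₗ[R] R ⧸ m := (Ideal.Quotient.factorₐ R htle).toLinearMap
    have hm1 : Module.length R (R ⧸ m) = 1 := by
      haveI : IsSimpleModule R (R ⧸ m) := isSimpleModule_iff_isCoatom.2 (maximalIdeal.isMaximal R).1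
      exact Module.length_eq_one _ _
    have hex : Function.Exact (LinearMap.range ψ).subtype φ := by
      intro z
      obtain ⟨z, rfl⟩ := Ideal.Quotient.mk_surjective z
      constructor
      · intro hz
        have hzm : z ∈ m := Ideal.Quotient.eq_zero_iff_mem.1 hz
        obtain ⟨a, b, rfl⟩ := Ideal.mem_span_pair.1 (hts.ge hzm)
        refine ⟨⟨_, Submodule.Quotient.mk b, rfl⟩, ?_⟩
        show Ideal.Quotient.mk (Ideal.span {t}) (b * s) = _
        rw [Ideal.Quotient.eq]
        exact Ideal.mem_span_singleton'.2 ⟨-a, by ring⟩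
      · rintro ⟨⟨_, w, rfl⟩, hw⟩
        obtain ⟨w, rfl⟩ := Submodule.mkQ_surjective m w
        rw [← hw]
        exact Ideal.Quotient.eq_zero_iff_mem.2 (Ideal.mul_mem_left _ _ hsm)
    rw [Module.length_eq_add_of_exact (LinearMap.range ψ).subtype φ Subtype.val_injective
      (Ideal.Quotient.factor_surjective htle) hex, hm1, ← one_add_one_eq_two]
    gcongr
    exact hm1 ▸ Module.length_le_of_surjective ψ.rangeRestrict ψ.surjective_rangeRestrict
  by_cases hp : ∃ v, I = Ideal.span {v}
  · exact Or.inl (equiv_ring_of_principal hgI hg hp.choose_spec)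
  right
  push Not at hp
  have nak : ∀ J : Ideal R, J ≤ I → I ≤ J ⊔ m * I → J = I := fun J hJ hle =>
    le_antisymm hJ (Submodule.le_of_le_smul_of_le_jacobson_bot (IsNoetherian.noetherian _)
      (maximalIdeal_le_jacobson _) hle)
  -- two elements independent modulo `m I`
  obtain ⟨e₁, he₁, he₁'⟩ : ∃ e ∈ I, e ∉ m * I := by
    by_contra! hcon
    exact hp 0 ((nak ⊥ bot_le (by rw [bot_sup_eq]; exact hcon)).symm.trans (by simp))
  obtain ⟨e₂, he₂, he₂'⟩ : ∃ e ∈ I, e ∉ Ideal.span {e₁} ⊔ m * I := by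
    by_contra! hcon
    exact hp e₁ (nak _ ((Ideal.span_singleton_le_iff_mem I).2 he₁) hcon).symm
  set J₁ := Ideal.span {e₁} ⊔ m * I
  set J₂ := Ideal.span {e₂} ⊔ J₁
  have hJ₁ : J₁ ≤ I := sup_le ((Ideal.span_singleton_le_iff_mem I).2 he₁) Ideal.mul_le_right
  have hJ₂ : J₂ ≤ I := sup_le ((Ideal.span_singleton_le_iff_mem I).2 he₂) hJ₁
  have h01 : m * I < J₁ := lt_of_le_of_ne le_sup_right fun h =>
    he₁' (h.ge (Submodule.mem_sup_left (Ideal.mem_span_singleton_self e₁)))
  have h12 : J₁ < J₂ := lt_of_le_of_ne le_sup_right fun h =>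
    he₂' (h.ge (Submodule.mem_sup_left (Ideal.mem_span_singleton_self e₂)))
  have htI : Ideal.span {t} * I ≤ m * I :=
    Ideal.mul_mono ((Ideal.span_singleton_le_iff_mem _).2 htm) le_rfl
  obtain ⟨a, ha⟩ : ∃ a : ℕ, (a : ℕ∞) = Module.length R (R ⧸ I) := ENat.ne_top_iff_exists.1 hfin
  have hA : Module.length R (R ⧸ Ideal.span {t} * I) ≤ (a + 2 : ℕ) := by
    rw [length_quot_mul ht I, ← ha]
    push_cast
    exact add_le_add le_rfl hl2
  have mono : ∀ {J J' : Ideal R}, J ≤ J' → Module.length R (R ⧸ J') ≤ Module.length R (R ⧸ J) :=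
    fun {J J'} h => Module.length_le_of_surjective (Ideal.Quotient.factorₐ R h).toLinearMap
      (Ideal.Quotient.factor_surjective h)
  have h2 : Module.length R (R ⧸ J₂) + 1 + 1 ≤ Module.length R (R ⧸ m * I) :=
    le_trans (add_le_add (length_quot_lt h12) le_rfl) (length_quot_lt h01)
  -- `t I = m I` and `I = (e₁, e₂)`
  have htmI : Ideal.span {t} * I = m * I := by
    refine le_antisymm htI (not_not.1 fun hne => ?_)
    have h3 := length_quot_lt (lt_of_le_not_ge htI hne)
    have h4 := ((add_le_add ((add_le_add (add_le_add (mono hJ₂) le_rfl) le_rfl).trans h2) le_rfl).trans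
      h3).trans hA
    rw [← ha] at h4
    norm_cast at h4
    omega
  have hgen : Ideal.span {e₁, e₂} = I := by
    have hJI : J₂ = I := by
      refine le_antisymm hJ₂ (not_not.1 fun hne => ?_)
      have h3 := length_quot_lt (lt_of_le_not_ge hJ₂ hne)
      have h4 := (((add_le_add (add_le_add h3 le_rfl) le_rfl).trans h2).trans (mono htI)).trans hA
      rw [← ha] at h4
      norm_cast at h4
      omega
    refine nak _ (Ideal.span_le.2 (by simp [Set.insert_subset_iff, he₁, he₂])) ?_
    refine hJI.ge.trans (sup_le ?_ (sup_le ?_ le_sup_right)) <;>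
      exact le_sup_of_le_left (Ideal.span_mono (by simp))
  -- `s` acts on `I` as `t` times a matrix
  have key : ∀ e ∈ I, ∃ p q : R, s * e = t * (p * e₁ + q * e₂) := fun e he => by
    obtain ⟨w, hw, h⟩ := Ideal.mem_span_singleton_mul.1 (htmI.ge (Ideal.mul_mem_mul hsm he))
    obtain ⟨p, q, rfl⟩ := Ideal.mem_span_pair.1 (hgen.ge hw)
    exact ⟨p, q, h.symm⟩
  obtain ⟨p, q, h₁⟩ := key e₁ he₁
  obtain ⟨p', q', h₂⟩ := key e₂ he₂
  suffices hv : ∃ c₁ c₂ d₁ d₂ : R, IsUnit (c₁ * d₂ - c₂ * d₁) ∧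
      s * (c₁ * e₁ + c₂ * e₂) = t * (d₁ * e₁ + d₂ * e₂) by
    obtain ⟨c₁, c₂, d₁, d₂, hu, hsv⟩ := hv
    set v := c₁ * e₁ + c₂ * e₂
    set w := d₁ * e₁ + d₂ * e₂
    obtain ⟨δ, hδ⟩ := hu.exists_left_inv
    have hvw : Ideal.span {v, w} = I := by
      rw [← hgen]
      refine le_antisymm (Ideal.span_le.2 ?_) (Ideal.span_le.2 ?_) <;>
        simp [Set.insert_subset_iff, Ideal.mem_span_pair]
      · exact ⟨⟨c₁, c₂, rfl⟩, ⟨d₁, d₂, rfl⟩⟩
      · refine ⟨⟨δ * d₂, -(δ * c₂), ?_⟩, ⟨-(δ * d₁), δ * c₁, ?_⟩⟩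
        · linear_combination e₁ * hδ
        · linear_combination e₂ * hδ
    have heq : Ideal.span {t} * I = Ideal.span {v} * m := by
      rw [← hvw, ← hts, Ideal.span_mul_span', Ideal.span_mul_span']
      congr 1
      simp only [Set.singleton_mul, Set.image_pair]
      rw [mul_comm t v, show t * w = v * s by linear_combination -hsv]
    refine equiv_of_mul_eq ht ?_ heq
    obtain ⟨r, -, hr⟩ := Ideal.mem_span_singleton_mul.1
      (heq.le (Ideal.mul_mem_mul (Ideal.mem_span_singleton_self t) hgI))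
    exact (mul_mem_nonZeroDivisors.1 (hr ▸ mul_mem ht hg)).1
  by_cases hq : IsUnit q
  · exact ⟨1, 0, p, q, by simpa using hq, by linear_combination h₁⟩
  by_cases hp' : IsUnit p'
  · exact ⟨0, 1, p', q', by simpa using hp'.neg, by linear_combination h₂⟩
  have hqm : q ∈ m := (mem_maximalIdeal _).2 hq
  have hp'm : p' ∈ m := (mem_maximalIdeal _).2 hp'
  by_cases hdiag : IsUnit (q' - p)
  · refine ⟨1, 1, p + p', q + q', ?_, by linear_combination h₁ + h₂⟩
    by_contra hc
    refine hdiag.elim fun w hw => ?_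
    have : (q' - p) ∈ m := by
      rw [show q' - p = (1 * (q + q') - 1 * (p + p')) - q + p' by ring]
      exact add_mem (sub_mem ((mem_maximalIdeal _).2 hc) hqm) hp'm
    exact (mem_maximalIdeal _).1 this hdiag
  exfalso
  have hdm : q' - p ∈ m := (mem_maximalIdeal _).2 hdiag
  set a' := s - p * t
  set z := a' ^ 2 - t * (q' - p) * a' - t ^ 2 * (q * p')
  have hz₁ : z * e₁ = 0 := by
    simp only [z, a']
    linear_combination (s - p * t - t * (q' - p)) * h₁ + t * q * h₂
  have hz₂ : z * e₂ = 0 := by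
    simp only [z, a']
    linear_combination (s - p * t) * h₂ + t * p' * h₁
  have hz : z = 0 := by
    obtain ⟨x, y, hxy⟩ := Ideal.mem_span_pair.1 (hgen.ge hgI)
    refine mem_nonZeroDivisors_iff_right.1 hg z ?_
    rw [← hxy]
    linear_combination x * hz₁ + y * hz₂
  have hta : Ideal.span {t, a'} = m := by
    rw [← hts]
    refine le_antisymm (Ideal.span_le.2 ?_) (Ideal.span_le.2 ?_)
    · rintro x (rfl | rfl)
      · exact Ideal.subset_span (by simp)
      · exact Ideal.mem_span_pair.2 ⟨-p, 1, by simp only [a']; ring⟩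
    · rintro x (rfl | rfl)
      · exact Ideal.subset_span (by simp)
      · exact Ideal.mem_span_pair.2 ⟨p, 1, by simp only [a']; ring⟩
  have ha2 : quad ![0, 0, 1] t a' ∈ m ^ 3 := by
    have e : quad ![(0 : R), 0, 1] t a' = (q' - p) * (t * a') + q * (p' * t ^ 2) := by
      simp only [quad, Matrix.cons_val_zero, Matrix.cons_val_one, Matrix.cons_val]
      have := hz
      simp only [z] at this
      linear_combination this
    rw [e, pow_succ']
    exact add_mem (Ideal.mul_mem_mul hdm (by simpa using sq_mem hta 1))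
      (Ideal.mul_mem_mul hqm (Ideal.mul_mem_left _ _ (by simpa using sq_mem hta 0)))
  have hu := hn.isUnit_disc hta ha2 fun h0 => by simpa using congrFun h0 2
  simp [disc] at hu

end Groth.Agent.H84.NodeIdeal
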