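import Groth.Agent.Lib.TFNodal.Spread
import Groth.Agent.Lib.RefHull.Tensor
import Groth.Agent.Lib.TensorMod.Gen

/-!
Two coherent modules with isomorphic stalks, free off a finite set of closed points, differ by an
invertible module: the module of maps which at those points are multiples of a chosen isomorphism.
-/

set_option autoImplicit false
set_option linter.style.haveILetI false
set_option maxHeartbeats 1000000
universe u

open CategoryTheory CategoryTheory.Limits AlgebraicGeometry TopologicalSpace Opposite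
open scoped TensorProduct

noncomputable section

namespace Groth.Agent.H84.NodeTwist

open Groth.Agent.Lib Groth.Agent.Lib.TensorMod.Dual Groth.Agent.Lib.RefHull.SecHom
open Groth.Agent.Lib.RefHull.HomSh
open Groth.Agent.Lib.Modules.StalkModule (stalkMapₗ stalkMapₗ_germ)

variable {X : Scheme.{u}}

/-- An isomorphism of stalks is the value of a section of the sheaf Hom which is bijective on all
nearby stalks. -/
theorem exists_bij_sec [IsLocallyNoetherian X] {F G : X.Modules} (hF : Coh.IsCoh F)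
    (hG : Coh.IsCoh G) {x : X} (e : F.presheaf.stalk x ≃ₗ[X.presheaf.stalk x] G.presheaf.stalk x) :
    ∃ (W : X.Opens) (_ : x ∈ W) (g : Γ(_root_.RefHull.homSh F G, W)),
      ∀ y : W, Function.Bijective (g.1 y) := by
  obtain ⟨v, hv⟩ := evalStalk_surjective (F := F) (G := G) hF x e.toLinearMap
  obtain ⟨w, hw⟩ := evalStalk_surjective (F := G) (G := F) hG x e.symm.toLinearMap
  obtain ⟨U₁, hx₁, g₁, rfl⟩ := TopCat.Presheaf.exists_germ_eq (_root_.RefHull.homSh F G).presheaf v
  obtain ⟨U₂, hx₂, h₁, rfl⟩ := TopCat.Presheaf.exists_germ_eq (_root_.RefHull.homSh G F).presheaf w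
  rw [RefHull.evalStalk_germ] at hv hw
  let g : Γ(_root_.RefHull.homSh F G, U₁ ⊓ U₂) :=
    (_root_.RefHull.homSh F G).presheaf.map (homOfLE inf_le_left).op g₁
  let h : Γ(_root_.RefHull.homSh G F, U₁ ⊓ U₂) :=
    (_root_.RefHull.homSh G F).presheaf.map (homOfLE inf_le_right).op h₁
  have hg : g.1 ⟨x, hx₁, hx₂⟩ = e.toLinearMap := hv
  have hh : h.1 ⟨x, hx₁, hx₂⟩ = e.symm.toLinearMap := hw
  obtain ⟨W₁, hxW₁, hW₁, e₁⟩ := TFNodal.Spread.exists_nhd_comp_eq_id hF
    (show x ∈ U₁ ⊓ U₂ from ⟨hx₁, hx₂⟩) g h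
    (by rw [hg, hh]; exact LinearMap.ext e.symm_apply_apply)
  obtain ⟨W₂, hxW₂, hW₂, e₂⟩ := TFNodal.Spread.exists_nhd_comp_eq_id hG
    (show x ∈ U₁ ⊓ U₂ from ⟨hx₁, hx₂⟩) h g
    (by rw [hg, hh]; exact LinearMap.ext e.apply_symm_apply)
  exact ⟨W₁ ⊓ W₂, ⟨hxW₁, hxW₂⟩, rs _ (inf_le_left.trans hW₁) g, fun y =>
    ⟨Function.LeftInverse.injective (LinearMap.congr_fun (e₁ y.1 y.2.1)),
      Function.RightInverse.surjective (LinearMap.congr_fun (e₂ y.1 y.2.2))⟩⟩

/-- A section generates freely when it does so injectively and locally surjectively. -/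
theorem isGen_of_local {M : X.Modules} {U : X.Opens} {e : Γ(M, U)}
    (hinj : ∀ (V : X.Opens) (h : V ≤ U), Function.Injective fun a : Γ(X, V) => a • rs M h e)
    (hsurj : ∀ (V : X.Opens) (h : V ≤ U) (f : Γ(M, V)) (y : X), y ∈ V →
      ∃ (W : X.Opens) (_ : y ∈ W) (hW : W ≤ V) (a : Γ(X, W)),
        a • rs M (hW.trans h) e = rs M hW f) :
    TensorMod.Gen.IsGen M U e := by
  intro V hV
  refine ⟨hinj V hV, fun f => ?_⟩
  choose W hyW hW a ha using fun y : V => hsurj V hV f y.1 y.2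
  have hcov : V ≤ iSup W := fun y hy => Opens.mem_iSup.2 ⟨⟨y, hy⟩, hyW ⟨y, hy⟩⟩
  obtain ⟨r₀, hr, -⟩ := TopCat.Sheaf.existsUnique_gluing' X.sheaf W V
    (fun y => homOfLE (hW y)) hcov a fun i j => by
      change rf (inf_le_left : W i ⊓ W j ≤ W i) (a i) = rf (inf_le_right : W i ⊓ W j ≤ W j) (a j)
      refine hinj (W i ⊓ W j) ((inf_le_left.trans (hW i)).trans hV) ?_
      have hi := congrArg (rs M (inf_le_left : W i ⊓ W j ≤ W i)) (ha i)
      have hj := congrArg (rs M (inf_le_right : W i ⊓ W j ≤ W j)) (ha j)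
      simp only [rs_smul, rs_rs] at hi hj
      exact hi.trans hj.symm
  obtain ⟨r, hr'⟩ : ∃ r : Γ(X, V), ∀ y, rf (hW y) r = a y := ⟨r₀, hr⟩
  refine ⟨r, sec_ext fun y hy => ?_⟩
  have h1 := congrArg (M.presheaf.germ (W ⟨y, hy⟩) y (hyW ⟨y, hy⟩)) (ha ⟨y, hy⟩)
  rw [← hr' ⟨y, hy⟩, germ_rs, Mero.germ_smul, germ_rs, germ_rf] at h1
  show M.presheaf.germ V y hy (r • rs M hV e) = _
  rw [Mero.germ_smul, germ_rs]
  exact h1

variable (F G : X.Modules) (S : Set X) (u : ∀ x : X, _root_.RefHull.StalkHom F G x)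

/-- Admissible families which on `S` are multiples of `u`. -/
def twistLoc : TopCat.LocalPredicate (fun x : X => _root_.RefHull.StalkHom F G x) where
  pred {U} f := (_root_.RefHull.homLoc F G).pred f ∧
    ∀ x : U, x.1 ∈ S → f x ∈ Submodule.span (X.presheaf.stalk x.1) {u x.1}
  res {U' U} i f h := ⟨(_root_.RefHull.homLoc F G).res i f h.1, fun x hx => h.2 ⟨x.1, i.le x.2⟩ hx⟩
  locality {U} f h := ⟨(_root_.RefHull.homLoc F G).locality f fun x => by
      obtain ⟨V, hV, i, hf⟩ := h x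
      exact ⟨V, hV, i, hf.1⟩, fun x hx => by
      obtain ⟨V, hV, i, hf⟩ := h x
      exact hf.2 ⟨x.1, hV⟩ hx⟩

instance : Mero.IsModPred (twistLoc F G S u) :=
  ⟨fun U => ⟨_root_.RefHull.homLoc_zero F G U, fun x _ => Submodule.zero_mem _⟩,
    fun U f g hf hg => ⟨_root_.RefHull.homLoc_add F G U f g hf.1 hg.1,
      fun x hx => Submodule.add_mem _ (hf.2 x hx) (hg.2 x hx)⟩,
    fun U r f hf => ⟨_root_.RefHull.homLoc_smul F G U r f hf.1,
      fun x hx => Submodule.smul_mem _ _ (hf.2 x hx)⟩⟩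

/-- The module of these families. -/
def twist : X.Modules := Mero.modOf (twistLoc F G S u)

/-- Forgetting the condition at `S`. -/
def incl : twist F G S u ⟶ _root_.RefHull.homSh F G :=
  ⟨PresheafOfModules.homMk
    { app := fun U => AddCommGrpCat.ofHom
        { toFun := fun f => (⟨(f : Γ(twist F G S u, U.unop)).1, f.2.1⟩ :
            Γ(_root_.RefHull.homSh F G, U.unop))
          map_zero' := rfl
          map_add' := fun _ _ => rfl }
      naturality := fun {U V} i => by ext f; rfl }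
    (fun U r s => rfl)⟩

/-- Evaluation of a germ at the point. -/
def ev (x : X) : (twist F G S u).presheaf.stalk x →ₗ[X.presheaf.stalk x]
    _root_.RefHull.StalkHom F G x :=
  (_root_.RefHull.evalStalk F G x).comp (stalkMapₗ (incl F G S u) x)

variable {F G S u}

theorem ev_germ {U : X.Opens} {x : X} (hx : x ∈ U) (f : Γ(twist F G S u, U)) :
    ev F G S u x ((twist F G S u).presheaf.germ U x hx f) = f.1 ⟨x, hx⟩ :=
  (congrArg (_root_.RefHull.evalStalk F G x) (stalkMapₗ_germ (incl F G S u) hx f)).trans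
    (_root_.RefHull.evalStalk_germ F G x hx _)

/-- The value of a family on a pairing. -/
def evPair (x : X) : (CohB1.tensorMod F (twist F G S u)).presheaf.stalk x →ₗ[X.presheaf.stalk x]
    G.presheaf.stalk x :=
  (TensorProduct.lift (ev F G S u x).flip).comp
    (RefHull.Tensor.tStalk F (twist F G S u) x).toLinearMap

theorem evPair_pair (x : X) (a : F.presheaf.stalk x) (θ : (twist F G S u).presheaf.stalk x) :
    evPair x (RefHull.Tensor.pair x a θ) = ev F G S u x θ a := by
  simp [evPair, RefHull.Tensor.pair_apply]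

/-- **Modules with isomorphic stalks, free off finitely many closed points, differ by a twist.** -/
theorem exists_twist [IsLocallyNoetherian X] {F G : X.Modules} (hF : Coh.IsCoh F) (hG : Coh.IsCoh G)
    {S : Set X} (hS : S.Finite) (hScl : ∀ x ∈ S, IsClosed ({x} : Set X))
    (hfaith : ∀ (x : X) (r : X.presheaf.stalk x), (∀ a : F.presheaf.stalk x, r • a = 0) → r = 0)
    (hfree : ∀ x ∉ S, Nonempty (F.presheaf.stalk x ≃ₗ[X.presheaf.stalk x] X.presheaf.stalk x))
    (he : ∀ x : X, Nonempty (F.presheaf.stalk x ≃ₗ[X.presheaf.stalk x] G.presheaf.stalk x)) :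
    ∃ M : X.Modules, PicF.IsInvertible M ∧ Nonempty (G ≅ CohB1.tensorMod F M) := by
  classical
  choose W hxW g hg using fun x => exists_bij_sec hF hG (he x).some
  let u : ∀ x : X, _root_.RefHull.StalkHom F G x := fun x => (g x).1 ⟨x, hxW x⟩
  let M := twist F G S u
  let N : X → X.Opens := fun x => W x ⊓ ⟨(S \ {x})ᶜ, by
    rw [isOpen_compl_iff, ← Set.biUnion_of_singleton (S \ {x})]
    exact (hS.sdiff).isClosed_biUnion fun y hy => hScl y hy.1⟩
  have hxN : ∀ x, x ∈ N x := fun x => ⟨hxW x, fun h => h.2 rfl⟩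
  have hNS : ∀ x y, y ∈ N x → y ∈ S → y = x := fun x y hy hyS => by
    by_contra hne
    exact hy.2 ⟨hyS, hne⟩
  -- the local generators
  let e : ∀ x, Γ(M, N x) := fun x =>
    ⟨(rs (_root_.RefHull.homSh F G) inf_le_left (g x) : Γ(_root_.RefHull.homSh F G, N x)).1,
      (rs (_root_.RefHull.homSh F G) inf_le_left (g x) : Γ(_root_.RefHull.homSh F G, N x)).2,
      fun y hy => by
        obtain ⟨y, hy'⟩ := y
        obtain rfl := hNS x y hy' hy
        exact Submodule.mem_span_singleton_self _⟩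
  have heval : ∀ x y (hy : y ∈ N x), (e x).1 ⟨y, hy⟩ = (g x).1 ⟨y, hy.1⟩ := fun x y hy => rfl
  have hzero : ∀ x y (hy : y ∈ W x) (c : X.presheaf.stalk y), c • (g x).1 ⟨y, hy⟩ = 0 → c = 0 :=
    fun x y hy c hc => hfaith y c fun a => (hg x ⟨y, hy⟩).1 (by
      rw [map_smul, map_zero]; exact LinearMap.congr_fun hc a)
  have hgen : ∀ x, TensorMod.Gen.IsGen M (N x) (e x) := by
    intro x
    refine isGen_of_local (fun V hV a b hab => ?_) fun V hV f y hy => ?_
    · refine TopCat.Presheaf.section_ext X.sheaf V a b fun y hy => ?_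
      have h := congrArg (fun w : Γ(M, V) => w.1 ⟨y, hy⟩) hab
      change X.presheaf.germ V y hy a • (g x).1 ⟨y, (hV hy).1⟩ =
        X.presheaf.germ V y hy b • (g x).1 ⟨y, (hV hy).1⟩ at h
      rw [← sub_eq_zero, ← sub_smul] at h
      exact sub_eq_zero.1 (hzero x y _ _ h)
    · -- the scalar at `y`
      obtain ⟨c, hc⟩ : ∃ c : X.presheaf.stalk y, f.1 ⟨y, hy⟩ = c • (g x).1 ⟨y, (hV hy).1⟩ := by
        by_cases hyS : y ∈ S
        · obtain rfl := hNS x y (hV hy) hyS
          obtain ⟨c, hc⟩ := Submodule.mem_span_singleton.1 (f.2.2 ⟨y, hy⟩ hyS)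
          exact ⟨c, hc.symm⟩
        · obtain ⟨b⟩ := hfree y hyS
          let gy := LinearEquiv.ofBijective _ (hg x ⟨y, (hV hy).1⟩)
          let φ : F.presheaf.stalk y →ₗ[X.presheaf.stalk y] F.presheaf.stalk y :=
            gy.symm.toLinearMap.comp (f.1 ⟨y, hy⟩)
          refine ⟨b (φ (b.symm 1)), LinearMap.ext fun a => ?_⟩
          have ha : a = b a • b.symm 1 := by
            rw [← map_smul, smul_eq_mul, mul_one, LinearEquiv.symm_apply_apply]
          have hφ : φ a = b (φ (b.symm 1)) • a := b.injective (by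
            conv_lhs => rw [ha]
            rw [map_smul, map_smul, map_smul, smul_eq_mul, smul_eq_mul, mul_comm])
          rw [LinearMap.smul_apply, ← map_smul, ← hφ]
          exact (gy.apply_symm_apply _).symm
      obtain ⟨W', hyW', c', rfl⟩ := TopCat.Presheaf.exists_germ_eq X.presheaf c
      let D := V ⊓ W'
      let f₁ : Γ(_root_.RefHull.homSh F G, D) := (incl F G S u).app D (rs M (inf_le_left : D ≤ V) f)
      let f₂ : Γ(_root_.RefHull.homSh F G, D) := (incl F G S u).app D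
        (rf (inf_le_right : D ≤ W') c' • rs M ((inf_le_left : D ≤ V).trans hV) (e x))
      have hval : f₁.1 ⟨y, hy, hyW'⟩ = f₂.1 ⟨y, hy, hyW'⟩ := by
        change f.1 ⟨y, hy⟩ = X.presheaf.germ D y ⟨hy, hyW'⟩ (rf (inf_le_right : D ≤ W') c') •
          (g x).1 ⟨y, (hV hy).1⟩
        have e1 : X.presheaf.germ D y ⟨hy, hyW'⟩ (rf (inf_le_right : D ≤ W') c') =
            X.presheaf.germ W' y hyW' c' := germ_rf (inf_le_right : D ≤ W') _ c'
        rw [e1]
        exact hc
      have hgerm : (_root_.RefHull.homSh F G).presheaf.germ D y ⟨hy, hyW'⟩ f₁ =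
          (_root_.RefHull.homSh F G).presheaf.germ D y ⟨hy, hyW'⟩ f₂ := by
        refine evalStalk_injective hF y ?_
        exact ((_root_.RefHull.evalStalk_germ F G y _ f₁).trans hval).trans
          (_root_.RefHull.evalStalk_germ F G y _ f₂).symm
      obtain ⟨O, hyO, i₁, i₂, hO⟩ := TopCat.Presheaf.germ_eq _ y _ _ f₁ f₂ hgerm
      refine ⟨O, hyO, i₁.le.trans inf_le_left, rf (i₁.le.trans inf_le_right) c', ?_⟩
      refine Subtype.ext (funext fun z => ?_)
      have hz := congrArg (fun w : Γ(_root_.RefHull.homSh F G, O) => w.1 z) hO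
      change f.1 ⟨z.1, (i₁.le z.2).1⟩ = X.presheaf.germ D z.1 (i₁.le z.2) (rf (inf_le_right : D ≤ W') c') •
        (g x).1 ⟨z.1, (hV (i₁.le z.2).1).1⟩ at hz
      change X.presheaf.germ O z.1 z.2 (rf _ c') • (g x).1 ⟨z.1, _⟩ = f.1 ⟨z.1, _⟩
      have e1 : X.presheaf.germ O z.1 z.2 (rf (i₁.le.trans inf_le_right) c') =
          X.presheaf.germ D z.1 (i₁.le z.2) (rf (inf_le_right : D ≤ W') c') :=
        (germ_rf (i₁.le.trans inf_le_right) z.2 c').trans
          (germ_rf (inf_le_right : D ≤ W') (i₁.le z.2) c').symm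
      rw [e1]
      exact hz.symm
  refine ⟨M, TensorMod.Gen.isInvertible_iff.2 fun x => ⟨N x, e x, hxN x, hgen x⟩, ?_⟩
  -- stalks of the tensor product
  have hspan : ∀ x y (hy : y ∈ N x) (θ : M.presheaf.stalk y),
      ∃ c : X.presheaf.stalk y, θ = c • M.presheaf.germ (N x) y hy (e x) := by
    intro x y hy θ
    obtain ⟨V, hyV, m, rfl⟩ := TopCat.Presheaf.exists_germ_eq M.presheaf θ
    obtain ⟨a, ha⟩ := (hgen x (V ⊓ N x) inf_le_right).2 (rs M inf_le_left m)
    refine ⟨X.presheaf.germ (V ⊓ N x) y ⟨hyV, hy⟩ a, ?_⟩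
    dsimp only at ha
    have h := congrArg (M.presheaf.germ (V ⊓ N x) y ⟨hyV, hy⟩) ha
    refine (((Mero.germ_smul M (V ⊓ N x) y ⟨hyV, hy⟩ a (rs M inf_le_right (e x))).symm.trans h).trans
      (germ_rs inf_le_left ⟨hyV, hy⟩ m)).symm.trans ?_
    exact congrArg _ (germ_rs (inf_le_right : V ⊓ N x ≤ N x) ⟨hyV, hy⟩ (e x))
  have hrep : ∀ x (w : (CohB1.tensorMod F M).presheaf.stalk x), ∃ a,
      w = RefHull.Tensor.pair x a (M.presheaf.germ (N x) x (hxN x) (e x)) := by
    intro x w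
    obtain ⟨t, rfl⟩ := (RefHull.Tensor.tStalk F M x).symm.surjective w
    induction t using TensorProduct.induction_on with
    | zero => exact ⟨0, by simp⟩
    | tmul a θ =>
      obtain ⟨c, rfl⟩ := hspan x x (hxN x) θ
      exact ⟨c • a, by rw [RefHull.Tensor.pair_apply, TensorProduct.tmul_smul, ← TensorProduct.smul_tmul']⟩
    | add t₁ t₂ h₁ h₂ =>
      obtain ⟨a₁, h₁⟩ := h₁
      obtain ⟨a₂, h₂⟩ := h₂
      exact ⟨a₁ + a₂, by rw [map_add, h₁, h₂, map_add]; rfl⟩
  have hpair : ∀ x y (hy : y ∈ N x) (a : F.presheaf.stalk y),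
      evPair y (RefHull.Tensor.pair y a (M.presheaf.germ (N x) y hy (e x))) =
        (g x).1 ⟨y, hy.1⟩ a := fun x y hy a =>
    (evPair_pair y a _).trans (LinearMap.congr_fun (ev_germ hy (e x)) a)
  obtain ⟨φ, hφ⟩ := FundLocal.OfStalk.exists_hom
    (M := CohB1.tensorMod F M) (N := G) (fun x => evPair x) fun x w => by
    obtain ⟨a, rfl⟩ := hrep x w
    obtain ⟨V, hxV, m, rfl⟩ := TopCat.Presheaf.exists_germ_eq F.presheaf a
    let D := V ⊓ N x
    let em : Γ(_root_.RefHull.homSh F G, D) := rs _ (inf_le_right.trans inf_le_left) (g x)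
    refine ⟨D, ⟨hxV, hxN x⟩, SecTwist.tmul F M D (rs F inf_le_left m) (rs M inf_le_right (e x)),
      app em le_rfl (rs F inf_le_left m), ?_, fun y hy => ?_⟩
    · refine (RefHull.Tensor.pair_germ _ _ _).symm.trans ?_
      exact congrArg₂ (fun a b => RefHull.Tensor.pair x a b)
        (germ_rs (inf_le_left : D ≤ V) ⟨hxV, hxN x⟩ m) (germ_rs (inf_le_right : D ≤ N x) ⟨hxV, hxN x⟩ (e x))
    · refine (congrArg (evPair (F := F) (G := G) (S := S) (u := u) y)
        (RefHull.Tensor.pair_germ hy _ _).symm).trans ?_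
      refine (congrArg (fun b => evPair (F := F) (G := G) (S := S) (u := u) y
        (RefHull.Tensor.pair y _ b)) (germ_rs (inf_le_right : D ≤ N x) hy (e x))).trans ?_
      refine (hpair x y hy.2 _).trans ?_
      refine Eq.trans ?_ (germ_app em le_rfl (rs F inf_le_left m) y hy).symm
      rfl
  haveI : IsIso φ := by
    rw [Modules.StalkModule.isIso_iff_stalkMapₗ_bijective]
    intro x
    rw [hφ]
    refine ⟨(injective_iff_map_eq_zero _).2 fun w hw => ?_, fun b => ?_⟩
    · obtain ⟨a, rfl⟩ := hrep x w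
      have ha : a = 0 := (hg x ⟨x, hxW x⟩).1 (by
        rw [map_zero]; exact (hpair x x (hxN x) a).symm.trans hw)
      simp [ha]
    · obtain ⟨a, ha⟩ := (hg x ⟨x, hxW x⟩).2 b
      exact ⟨_, (hpair x x (hxN x) a).trans ha⟩
  exact ⟨(asIso φ).symm⟩

end Groth.Agent.H84.NodeTwist
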