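import Groth.Agent.Lib.RootDatum.Weyl
import Mathlib.LinearAlgebra.RootSystem.Reduced

/-! Morphisms of root data up to multipliers on the roots. -/

noncomputable section

open Set Function
open Groth.Agent.Lib.RootDatum Groth.Agent.Lib.RootDatum.Basic Groth.Agent.Lib.RootDatum.PosSys

namespace Groth.Agent.H84.PMor

variable {ι M N ι' M' N' : Type*} [AddCommGroup M] [AddCommGroup N] [AddCommGroup M'] [AddCommGroup N']
  {P : RootPairing ι ℤ M N} {P' : RootPairing ι' ℤ M' N'} [Finite ι] [Finite ι']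

/-- a map multiplying roots by positive integers -/
structure Data (P : RootPairing ι ℤ M N) (P' : RootPairing ι' ℤ M' N') where
  f : M' →ₗ[ℤ] M
  g : N →ₗ[ℤ] N'
  hfg : ∀ (m' : M') (n : N), P.toLinearMap (f m') n = P'.toLinearMap m' (g n)
  u : ι ≃ ι'
  q : ι → ℕ
  qpos : ∀ i, 0 < q i
  hroot : ∀ i : ι, f (P'.root (u i)) = (q i : ℤ) • P.root i
  hcoroot : ∀ i : ι, g (P.coroot i) = (q i : ℤ) • P'.coroot (u i)

variable (D : Data P P')

omit [Finite ι] [Finite ι'] in
lemma coroot'_f (i : ι) (m' : M') :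
    P.coroot' i (D.f m') = (D.q i : ℤ) * P'.coroot' (D.u i) m' := by
  change P.toLinearMap (D.f m') (P.coroot i) = _
  rw [D.hfg, D.hcoroot, map_smul, smul_eq_mul]
  rfl

omit [Finite ι] [Finite ι'] in
lemma pz_rel (i j : ι) :
    (D.q i : ℤ) * P.pairing i j = (D.q j : ℤ) * P'.pairing (D.u i) (D.u j) := by
  have h := coroot'_f D j (P'.root (D.u i))
  rw [D.hroot, map_smul, smul_eq_mul] at h
  exact h

omit [Finite ι] in
lemma f_injOn {x : M'} (hx : x ∈ Submodule.span ℤ (range P'.root)) (h : D.f x = 0) : x = 0 := by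
  refine eq_zero_of_mem_span_of_coroot'_eq_zero P' hx fun k => ?_
  have h2 := coroot'_f D (D.u.symm k) x
  rw [h, map_zero, D.u.apply_symm_apply] at h2
  exact (mul_eq_zero.mp h2.symm).resolve_left (by exact_mod_cast (D.qpos _).ne')

lemma root_mem_span' (k : ι') : P'.root k ∈ Submodule.span ℤ (range P'.root) :=
  Submodule.subset_span (mem_range_self k)

variable [P.IsReduced]

omit [Finite ι'] in
/-- Compatibility with reflections. -/
lemma refl_compat (i j : ι) :
    D.q (P.reflectionPerm i j) = D.q j ∧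
      D.u (P.reflectionPerm i j) = P'.reflectionPerm (D.u i) (D.u j) := by
  set k := P.reflectionPerm i j
  set l := D.u.symm (P'.reflectionPerm (D.u i) (D.u j)) with hl
  have h1 : (D.q l : ℤ) • P.root l = (D.q j : ℤ) • P.root k := by
    rw [← D.hroot, hl, D.u.apply_symm_apply, P'.root_reflectionPerm, P'.reflection_apply_root,
      map_sub, map_smul, D.hroot, D.hroot, P.root_reflectionPerm, P.reflection_apply_root,
      smul_sub, smul_smul, smul_smul]
    congr 2
    rw [mul_comm _ (D.q i : ℤ)]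
    exact (pz_rel D j i).symm
  have hlk : ¬ LinearIndependent ℤ ![P.root l, P.root k] := fun h => by
    have := (LinearIndependent.pair_iff.mp h (D.q l) (-(D.q j : ℤ))
      (by rw [h1, neg_smul, add_neg_cancel])).1
    exact (D.qpos l).ne' (by exact_mod_cast this)
  haveI := isAddTorsionFree_weight P
  rcases RootPairing.IsReduced.eq_or_eq_neg (P := P) l k hlk with e | e
  · have e' : l = k := P.root.injective e
    rw [e] at h1
    have : (D.q l : ℤ) = D.q j := smul_left_injective ℤ (P.ne_zero k) h1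
    refine ⟨by rw [← e']; exact_mod_cast this, ?_⟩
    rw [← e', hl, D.u.apply_symm_apply]
  · exfalso
    rw [e, smul_neg, ← neg_smul] at h1
    have := smul_left_injective ℤ (P.ne_zero k) h1
    have := D.qpos l
    have := D.qpos j
    omega

omit [Finite ι'] in
lemma negIdx_compat (i : ι) : D.u (negIdx P i) = negIdx P' (D.u i) := (refl_compat D i i).2

omit [Finite ι'] in
lemma q_smul {w : P.Aut} (hw : w ∈ P.weylGroup) : ∀ i : ι, D.q (w • i) = D.q i := by
  induction hw using RootPairing.weylGroup.induction with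
  | mem j => intro i; exact (refl_compat D j i).1
  | one => intro i; rw [one_smul]
  | mul x y _ _ hx hy => intro i; rw [mul_smul, hx, hy]

omit [Finite ι'] in
lemma exists_transfer {w : P.Aut} (hw : w ∈ P.weylGroup) :
    ∃ w' ∈ P'.weylGroup, ∀ i : ι, D.u (w • i) = w' • D.u i := by
  induction hw using RootPairing.weylGroup.induction with
  | mem j =>
    exact ⟨_, P'.reflection_mem_weylGroup (D.u j), fun i => (refl_compat D j i).2⟩
  | one => exact ⟨1, one_mem _, fun i => by rw [one_smul, one_smul]⟩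
  | mul x y _ _ hx hy =>
    obtain ⟨x', hx', hx⟩ := hx
    obtain ⟨y', hy', hy⟩ := hy
    exact ⟨x' * y', mul_mem hx' hy', fun i => by rw [mul_smul, hx, hy, mul_smul]⟩

lemma eq_of_smul_eq {P : RootPairing ι ℤ M N} {v w : P.weylGroup}
    (h : ∀ i : ι, (v : P.Aut) • i = (w : P.Aut) • i) : v = w :=
  Weyl.weylGroupToPerm_injective P (Equiv.ext h)

/-- The isomorphism of Weyl groups. -/
def ubar : P.weylGroup ≃* P'.weylGroup :=
  MulEquiv.ofBijective
    ({ toFun := fun w => ⟨(exists_transfer D w.2).choose, (exists_transfer D w.2).choose_spec.1⟩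
       map_one' := eq_of_smul_eq fun k => by
        obtain ⟨i, rfl⟩ := D.u.surjective k
        exact ((exists_transfer D (1 : P.weylGroup).2).choose_spec.2 i).symm.trans (by simp)
       map_mul' := fun v w => eq_of_smul_eq fun k => by
        obtain ⟨i, rfl⟩ := D.u.surjective k
        refine ((exists_transfer D (v * w).2).choose_spec.2 i).symm.trans ?_
        rw [Subgroup.coe_mul, mul_smul, (exists_transfer D v.2).choose_spec.2,
          (exists_transfer D w.2).choose_spec.2, Subgroup.coe_mul, mul_smul] } :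
      P.weylGroup →* P'.weylGroup)
    (by
      refine ⟨fun v w h => eq_of_smul_eq fun i => D.u.injective ?_, fun w' => ?_⟩
      · rw [(exists_transfer D v.2).choose_spec.2, (exists_transfer D w.2).choose_spec.2]
        exact congrArg (fun z : P'.weylGroup => (z : P'.Aut) • D.u i) h
      · obtain ⟨w', hw'⟩ := w'
        have : ∃ w ∈ P.weylGroup, ∀ i : ι, D.u (w • i) = w' • D.u i := by
          induction hw' using RootPairing.weylGroup.induction with
          | mem j =>
            refine ⟨_, P.reflection_mem_weylGroup (D.u.symm j), fun i => ?_⟩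
            have := (refl_compat D (D.u.symm j) i).2
            rwa [D.u.apply_symm_apply] at this
          | one => exact ⟨1, one_mem _, fun i => by rw [one_smul, one_smul]⟩
          | mul x y _ _ hx hy =>
            obtain ⟨x', hx', hx⟩ := hx
            obtain ⟨y', hy', hy⟩ := hy
            exact ⟨x' * y', mul_mem hx' hy', fun i => by rw [mul_smul, hx, hy, mul_smul]⟩
        obtain ⟨w, hw, h⟩ := this
        refine ⟨⟨w, hw⟩, eq_of_smul_eq fun k => ?_⟩
        obtain ⟨i, rfl⟩ := D.u.surjective k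
        exact ((exists_transfer D hw).choose_spec.2 i).symm.trans (h i))

lemma ubar_spec (w : P.weylGroup) (i : ι) :
    D.u ((w : P.Aut) • i) = ((ubar D w : P'.weylGroup) : P'.Aut) • D.u i :=
  (exists_transfer D w.2).choose_spec.2 i

section Pos

omit [P.IsReduced] in
lemma exists_lift {S : Set ι} {x : M} (hx : x ∈ RootD.natSpan P S) :
    ∃ L : ℕ, 0 < L ∧ ∃ y ∈ RootD.natSpan P' (D.u '' S), D.f y = L • x := by
  haveI := Fintype.ofFinite ι
  classical
  refine ⟨∏ j, D.q j, Finset.prod_pos fun j _ => D.qpos j, ?_⟩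
  refine AddSubmonoid.closure_induction ?_ ⟨0, zero_mem _, by simp⟩ ?_ hx
  · rintro _ ⟨j, hj, rfl⟩
    refine ⟨(∏ i ∈ Finset.univ.erase j, D.q i) • P'.root (D.u j),
      nsmul_mem (root_mem_natSpan P' (Set.mem_image_of_mem _ hj)) _, ?_⟩
    rw [map_nsmul, D.hroot, ← Finset.mul_prod_erase _ _ (Finset.mem_univ j), natCast_zsmul,
      smul_smul, mul_comm]
  · rintro _ _ _ _ ⟨y, hy, hy'⟩ ⟨z, hz, hz'⟩
    exact ⟨y + z, add_mem hy hz, by rw [map_add, hy', hz', smul_add]⟩

omit [Finite ι] [Finite ι'] [P.IsReduced] in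
lemma map_natSpan {S : Set ι} {y : M'} (hy : y ∈ RootD.natSpan P' (D.u '' S)) :
    D.f y ∈ RootD.natSpan P S := by
  refine AddSubmonoid.closure_induction ?_ (by simp) ?_ hy
  · rintro _ ⟨_, ⟨j, hj, rfl⟩, rfl⟩
    rw [D.hroot, natCast_zsmul]
    exact nsmul_mem (root_mem_natSpan P hj) _
  · intro a b _ _ ha hb
    rw [map_add]; exact add_mem ha hb

theorem isPosSys_image_iff {S : Set ι} : RootD.IsPosSys P S ↔ RootD.IsPosSys P' (D.u '' S) := by
  have hneg : ∀ i, P'.reflectionPerm (D.u i) (D.u i) ∈ D.u '' S ↔ P.reflectionPerm i i ∈ S := fun i => by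
    rw [← (refl_compat D i i).2, D.u.injective.mem_set_image]
  have hdc : ((∀ ⦃i⦄, i ∈ S → P.reflectionPerm i i ∉ S) ↔
      ∀ ⦃k⦄, k ∈ D.u '' S → P'.reflectionPerm k k ∉ D.u '' S) ∧
      ((∀ i, i ∈ S ∨ P.reflectionPerm i i ∈ S) ↔
        ∀ k, k ∈ D.u '' S ∨ P'.reflectionPerm k k ∈ D.u '' S) := by
    refine ⟨⟨fun h k hk => ?_, fun h i hi => ?_⟩, ⟨fun h k => ?_, fun h i => ?_⟩⟩
    · obtain ⟨i, hi, rfl⟩ := hk; rw [hneg]; exact h hi
    · rw [← hneg]; exact h ⟨i, hi, rfl⟩
    · obtain ⟨i, rfl⟩ := D.u.surjective k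
      rw [D.u.injective.mem_set_image, hneg]; exact h i
    · have := h (D.u i); rwa [D.u.injective.mem_set_image, hneg] at this
  constructor
  · intro h
    refine ⟨hdc.1.mp h.disjoint, hdc.2.mp h.cover, fun k n hn hk => ?_⟩
    obtain ⟨i, rfl⟩ := D.u.surjective k
    have h2 := map_natSpan D hk
    rw [map_nsmul, D.hroot, natCast_zsmul, smul_smul] at h2
    exact ⟨i, h.sat _ (mul_pos hn (D.qpos i)) h2, rfl⟩
  · intro h
    refine ⟨hdc.1.mpr h.disjoint, hdc.2.mpr h.cover, fun i n hn hi => ?_⟩
    obtain ⟨L, hL, y, hy, hfy⟩ := exists_lift D hi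
    have e : (L * n) • P'.root (D.u i) = D.q i • y := by
      rw [← sub_eq_zero]
      refine f_injOn D (Submodule.sub_mem _ (nsmul_mem (root_mem_span' _) _)
        (nsmul_mem (Submodule.span_mono (Set.image_subset_range _ _)
          (natSpan_le_span P' _ _ hy)) _)) ?_
      rw [map_sub, map_nsmul, map_nsmul, D.hroot, hfy, natCast_zsmul, smul_smul, smul_smul, smul_smul,
        sub_eq_zero]
      congr 1; ring
    have := h.sat _ (mul_pos hL hn) (e ▸ nsmul_mem hy _)
    rwa [D.u.injective.mem_set_image] at this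

end Pos

section Simple

variable {ι₀ M₀ N₀ : Type*} [AddCommGroup M₀] [AddCommGroup N₀] {Q : RootPairing ι₀ ℤ M₀ N₀}
  [Finite ι₀] [Q.IsReduced]

omit [P.IsReduced] [Finite ι] [Finite ι'] in
lemma no_double (k a : ι₀) : Q.root k ≠ (2 : ℕ) • Q.root a := by
  intro h
  haveI := isAddTorsionFree_weight Q
  have hli : ¬ LinearIndependent ℤ ![Q.root k, Q.root a] := fun hli => by
    have := (LinearIndependent.pair_iff.mp hli 1 (-2) (by rw [h, two_nsmul]; module)).1
    exact one_ne_zero this
  rcases RootPairing.IsReduced.eq_or_eq_neg (P := Q) k a hli with e | e <;> rw [e] at h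
  · rw [← natCast_zsmul] at h
    nth_rw 1 [← one_smul ℤ (Q.root a)] at h
    exact absurd (smul_left_injective ℤ (Q.ne_zero a) h) (by norm_num)
  · rw [← natCast_zsmul, ← neg_one_smul ℤ] at h
    exact absurd (smul_left_injective ℤ (Q.ne_zero a) h) (by norm_num)

omit [P.IsReduced] [Finite ι] [Finite ι'] in
/-- Simple roots are those whose reflection preserves the other positive roots. -/
lemma mem_simples_iff {S : Set ι₀} (hS : RootD.IsPosSys Q S) {a : ι₀} :
    a ∈ simples Q S ↔ a ∈ S ∧ ∀ k ∈ S, k ≠ a → Q.reflectionPerm a k ∈ S := by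
  constructor
  · intro ha
    refine ⟨ha.1, fun k hk hne => ?_⟩
    rw [← posOf_simples Q hS] at hk ⊢
    exact reflectionPerm_mem_posOf (isSimpleSys_simples Q hS) ha hk hne (no_double k a)
  · rintro ⟨ha, h⟩
    refine ⟨ha, ?_⟩
    rintro ⟨b, c, hb, hc, e⟩
    have hba : b ≠ a := fun e' => Q.ne_zero c (by rw [e'] at e; exact left_eq_add.mp e)
    have hca : c ≠ a := fun e' => Q.ne_zero b (by rw [e'] at e; exact right_eq_add.mp e)
    have e2 : Q.root (negIdx Q a) = Q.root (Q.reflectionPerm a b) + Q.root (Q.reflectionPerm a c) := by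
      rw [root_negIdx, Q.root_reflectionPerm, Q.root_reflectionPerm, ← map_add, ← e,
        Q.reflection_apply_self]
    exact hS.disjoint ha (isClosed_of_isPosSys Q hS (h b hb hba) (h c hc hca) e2)

variable [P'.IsReduced]

theorem simples_image {S : Set ι} (hS : RootD.IsPosSys P S) :
    simples P' (D.u '' S) = D.u '' simples P S := by
  have hS' := (isPosSys_image_iff D).mp hS
  ext b
  obtain ⟨a, rfl⟩ := D.u.surjective b
  rw [D.u.injective.mem_set_image, mem_simples_iff hS, mem_simples_iff hS']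
  rw [D.u.injective.mem_set_image]
  refine and_congr_right fun _ => ⟨fun h k hk hne => ?_, fun h k hk hne => ?_⟩
  · have := h (D.u k) ⟨k, hk, rfl⟩ (D.u.injective.ne hne)
    rwa [← (refl_compat D a k).2, D.u.injective.mem_set_image] at this
  · obtain ⟨i, hi, rfl⟩ := hk
    rw [← (refl_compat D a i).2, D.u.injective.mem_set_image]
    exact h i hi fun e => hne (e ▸ rfl)

theorem isSimpleSys_image_iff {Δ : Set ι} :
    RootD.IsSimpleSys P Δ ↔ RootD.IsSimpleSys P' (D.u '' Δ) := by
  constructor
  · intro h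
    have h2 := isSimpleSys_simples P' ((isPosSys_image_iff D).mp (isPosSys_posOf h))
    rwa [simples_image D (isPosSys_posOf h), simples_posOf h] at h2
  · intro h
    have e : D.u '' (D.u ⁻¹' RootD.posOf P' (D.u '' Δ)) = RootD.posOf P' (D.u '' Δ) :=
      Set.image_preimage_eq _ D.u.surjective
    have hS : RootD.IsPosSys P (D.u ⁻¹' RootD.posOf P' (D.u '' Δ)) := by
      rw [isPosSys_image_iff D, e]; exact isPosSys_posOf h
    have h2 := simples_image D hS
    rw [e, simples_posOf h] at h2
    have := Set.image_injective.mpr D.u.injective h2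
    rw [this]
    exact isSimpleSys_simples P hS

end Simple

end Groth.Agent.H84.PMor
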