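import Mathlib.LinearAlgebra.RootSystem.Defs
import Mathlib.LinearAlgebra.QuadraticForm.Basic

/-! Quadratic maps invariant under a coreflection. -/

namespace Groth.Agent.H84.QForm

variable {ι R M N : Type*} [CommRing R] [IsDomain R] [CharZero R] [AddCommGroup M] [Module R M]
  [AddCommGroup N] [Module R N] (P : RootPairing ι R M N) (Q : QuadraticMap R N R)

omit [IsDomain R] [CharZero R] in
lemma map_coreflection (j : ι) (y : N) :
    Q (P.coreflection j y) = Q y + P.root' j y * P.root' j y * Q (P.coroot j) -
      P.root' j y * QuadraticMap.polar Q y (P.coroot j) := by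
  rw [P.coreflection_apply, sub_eq_add_neg, ← neg_smul, QuadraticMap.map_add Q, Q.map_smul,
    Q.polar_smul_right, smul_eq_mul, smul_eq_mul]
  change Q y + (-P.root' j y) * (-P.root' j y) * Q (P.coroot j) + -P.root' j y * _ = _
  ring

/-- On a submodule containing the coroot, invariance amounts to a linear condition. -/
lemma invariant_iff (j : ι) (D : Submodule R N) (hj : P.coroot j ∈ D) :
    (∀ y ∈ D, Q (P.coreflection j y) = Q y) ↔
      ∀ y ∈ D, QuadraticMap.polar Q y (P.coroot j) = P.root' j y * Q (P.coroot j) := by
  constructor
  · intro h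
    have h1 : ∀ y ∈ D, P.root' j y ≠ 0 →
        QuadraticMap.polar Q y (P.coroot j) = P.root' j y * Q (P.coroot j) := by
      intro y hy hne
      have e := h y hy
      rw [map_coreflection] at e
      refine mul_left_cancel₀ hne ?_
      linear_combination -e
    intro y hy
    by_cases h0 : P.root' j y = 0
    · have h2 : (2 : R) ≠ 0 := two_ne_zero
      have hc : P.root' j (P.coroot j) = 2 := P.root_coroot_two j
      have e := h1 (y + P.coroot j) (D.add_mem hy hj) (by rw [map_add, h0, hc, zero_add]; exact h2)
      rw [Q.polar_add_left, QuadraticMap.polar_self, map_add, h0, hc, nsmul_eq_mul, Nat.cast_ofNat] at e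
      rw [h0, zero_mul]
      linear_combination e
    · exact h1 y hy h0
  · intro h y hy
    rw [map_coreflection, h y hy]; ring

omit [IsDomain R] [CharZero R] in
lemma polar_zero_left (x : N) : QuadraticMap.polar Q 0 x = 0 := Q.polar_zero_left x

end Groth.Agent.H84.QForm
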