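import Groth.Agent.Lib.Nakai.NumTrivial
import Groth.Agent.H97.CurveLift
import Groth.Agent.Lib.Chow.Projective
import Groth.Agent.Lib.ProjSpace.BaseChange
import Groth.Agent.Lib.HProj.QuasiProj
import Groth.Agent.Lib.Ample.Pow
import Groth.Agent.Lib.Cyc.PP.Push
import Groth.Agent.Lib.Modules.ProjFormula

/-!
# Growth of the sections of the powers of an invertible module on a proper scheme
-/

set_option autoImplicit false
set_option linter.style.haveILetI false
universe u

open CategoryTheory CategoryTheory.Limits AlgebraicGeometry TopologicalSpace Opposite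

namespace Groth.Agent.H84.SectionGrowth

open Groth.Agent.Lib Groth.Agent.Lib.Snapper
open Groth.Agent.Lib.PosLin.SectionBound (h0 h0_congr h0_le_of_mono exists_h0_bound)
open Groth.Agent.Lib.TensorMod.Basic (tmap comm assoc tensorIso leftUnit rightUnit)
open Groth.Agent.Lib.TensorMod.Invertible (isInvertible_tensorPow)

/-- A morphism from a reduced scheme with image in a closed subscheme factors through it. -/
theorem exists_lift {W X Y : Scheme.{u}} [IsReduced W] (i : X ⟶ Y) [IsClosedImmersion i] (h : W ⟶ Y)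
    (hs : ∀ w, h w ∈ Set.range i) : ∃ l, l ≫ i = h := by
  have hsub : Set.range h ⊆ Set.range i := by rintro _ ⟨w, rfl⟩; exact hs w
  haveI : Surjective (pullback.fst h i) := ⟨by
    rw [← Set.range_eq_univ, Scheme.Pullback.range_fst, Set.eq_univ_iff_forall]
    exact fun w => hsub ⟨w, rfl⟩⟩
  haveI : IsIso (pullback.fst h i) := isIso_of_isClosedImmersion_of_surjective _
  exact ⟨CategoryTheory.inv (pullback.fst h i) ≫ pullback.snd h i,
    by rw [Category.assoc, ← pullback.condition, IsIso.inv_hom_id_assoc]⟩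

/-- A dominant morphism of integral schemes is injective on functions. -/
theorem app_injective {Z W : Scheme.{u}} [IsIntegral Z] [IsIntegral W] (g : Z ⟶ W)
    (hg : g (genericPoint Z) = genericPoint W) (U : W.Opens) : Function.Injective (g.app U) := by
  intro a b h
  rcases isEmpty_or_nonempty U with hU | ⟨⟨z, hz⟩⟩
  · exact TopCat.Presheaf.section_ext W.sheaf U a b fun z hz => (hU.false ⟨z, hz⟩).elim
  have hη : genericPoint W ∈ U :=
    ((genericPoint_spec W).mem_open_set_iff U.2).2 ⟨z, trivial, hz⟩
  have hη' : g (genericPoint Z) ∈ U := hg ▸ hη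
  have hst : Function.Injective (g.stalkMap (genericPoint Z)).hom := by
    haveI : Nontrivial (Z.presheaf.stalk (genericPoint Z)) := inferInstance
    refine (injective_iff_map_eq_zero _).2 fun x hx => ?_
    by_contra hne
    have hfld : IsField (W.presheaf.stalk (g (genericPoint Z))) := by
      rw [hg]
      exact Field.toIsField _
    obtain ⟨v, hv⟩ := hfld.mul_inv_cancel hne
    have hunit : IsUnit x := IsUnit.of_mul_eq_one v hv
    exact not_isUnit_zero (hx ▸ hunit.map (g.stalkMap (genericPoint Z)).hom)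
  haveI : Nonempty U := ⟨⟨z, hz⟩⟩
  refine germ_injective_of_isIntegral W (g (genericPoint Z)) (hx := hη') (hst ?_)
  erw [Scheme.Hom.germ_stalkMap_apply, Scheme.Hom.germ_stalkMap_apply]
  rw [h]

/-- Hence `O_W → g_* O_Z` is a monomorphism. -/
theorem mono_unitToPush {Z W : Scheme.{u}} [IsIntegral Z] [IsIntegral W] (g : Z ⟶ W)
    (hg : g (genericPoint Z) = genericPoint W) : Mono (_root_.ClSub.unitToPush g) :=
  (Modules.Stalk.mono_iff_app_injective _).2 fun U => app_injective g hg U

variable {k : Type u} [Field k] {X : Scheme.{u}} [X.Over (Spec (CommRingCat.of k))]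

/-- Global sections of a direct image. -/
theorem finrank_push_zero {Z : Scheme.{u}} [Z.Over (Spec (CommRingCat.of k))] (f : Z ⟶ X)
    (hf : f ≫ (X ↘ Spec (CommRingCat.of k)) = Z ↘ Spec (CommRingCat.of k)) (M : Z.Modules) :
    h0 k X ((Coh.push f).obj M) = h0 k Z M := by
  letI := Curves.GlobalSections.secModule k ((Coh.push f).obj M)
  letI := Curves.GlobalSections.secModule k M
  have hc : ∀ c : k, f.app ⊤ (Coh.toGlobal (X ↘ Spec (CommRingCat.of k)) c) =
      Coh.toGlobal (Z ↘ Spec (CommRingCat.of k)) c := fun c => by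
    rw [← hf]
    rfl
  let e : (((Coh.push f).obj M).val.obj (op ⊤) : Type u) ≃ₗ[k] (M.val.obj (op ⊤) : Type u) :=
    { AddEquiv.refl (M.val.obj (op ⊤) : Type u) with
      map_smul' := fun c z => congrArg (fun t : Coh.Γtop Z => t • (show (M.val.obj (op ⊤) : Type u) from z)) (hc c) }
  exact ((Curves.GlobalSections.h0Linear k ((Coh.push f).obj M)).trans
    (e.trans (Curves.GlobalSections.h0Linear k M).symm)).finrank_eq

variable [IsProper (X ↘ Spec (CommRingCat.of k))]

/-- The generators: closures of points. -/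
theorem exists_bound_closure {r : ℕ} (y : X) {L : X.Modules} (hL : PicF.IsInvertible L)
    (hy : VarDim.Basic.pdim (X ↘ Spec (CommRingCat.of k)) y ≤ r) :
    ∃ K : ℕ, ∀ m : ℕ, h0 k X (CohB1.tensorMod (CohB1.tensorPow L m) (Cyc.closureStructureSheaf y)) ≤
      K * (m + 1) ^ r := by
  haveI := Curves.GlobalSections.isNoetherian_of_proper k X
  let p := X ↘ Spec (CommRingCat.of k)
  obtain ⟨n, X', π, j, U, hj, hjr, hπ, hsurj, -, -, -, -⟩ :=
    Chow.Projective.chow p (Or.inl inferInstance)
  haveI := hj
  haveI := hπ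
  haveI := hsurj
  letI : X'.Over (Spec (CommRingCat.of k)) := ⟨π ≫ p⟩
  haveI : IsProper (X' ↘ Spec (CommRingCat.of k)) := inferInstanceAs (IsProper (π ≫ p))
  haveI : IsProper (j ≫ CohB1.ProjSpaceOver.toBase n (Spec (CommRingCat.of k))) := hjr ▸ inferInstance
  haveI : IsSeparated (CohB1.ProjSpaceOver.toBase n (Spec (CommRingCat.of k))) := by
    rw [← ProjSpace.BaseChange.overSpecIso_hom_toSpec]; infer_instance
  haveI : IsProper j := IsProper.of_comp j (CohB1.ProjSpaceOver.toBase n (Spec (CommRingCat.of k)))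
  haveI : IsClosedImmersion j := IsClosedImmersion.of_isPreimmersion j j.isClosedMap.isClosed_range
  obtain ⟨y', hy', hyd⟩ := H97.CurveLift.exists_point p (X' ↘ Spec (CommRingCat.of k)) π rfl y
  let J := _root_.IntMult.ptIdeal y'
  let Z := J.subscheme
  haveI : IsIntegral Z := IntTheory.Curves.isIntegral_ptIdeal y'
  haveI : IsIntegral (_root_.IntMult.ptIdeal y).subscheme := IntTheory.Curves.isIntegral_ptIdeal y
  let ι := (J.subschemeι ≫ j) ≫ (ProjSpace.BaseChange.overSpecIso n k).hom
  let f : Z ⟶ X := J.subschemeι ≫ π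
  letI : Z.Over (Spec (CommRingCat.of k)) := ⟨f ≫ p⟩
  haveI : IsProper f := inferInstanceAs (IsProper (J.subschemeι ≫ π))
  haveI : IsProper (Z ↘ Spec (CommRingCat.of k)) := inferInstanceAs (IsProper (f ≫ p))
  haveI := Curves.GlobalSections.isNoetherian_of_proper k Z
  let H : Z.Modules := (Scheme.Modules.pullback ι).obj (Twist.twist (CohB1.polyGrading n k) 1)
  have hH : CohB1.IsAmple H := Ample.Pullback.isAmple_pullback ι
    (Ample.Pullback.isQuasiAffine_of_isAffineHom ι) (HProj.QuasiProj.isAmple_twist_projSpace n k)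
  -- the image
  have hgen : J.subschemeι (genericPoint Z) = y' := by
    have h1 := (genericPoint_spec Z).image J.subschemeι.continuous
    rw [Set.image_univ, Devissage.Closure.range_ptIdeal, closure_closure] at h1
    exact h1.eq isGenericPoint_closure
  have hrange : ∀ z, f z ∈ Set.range (_root_.IntMult.ptIdeal y).subschemeι := fun z => by
    rw [Devissage.Closure.range_ptIdeal, ← hy', ← hgen]
    exact specializes_iff_mem_closure.1
      (((genericPoint_spec Z).specializes (Set.mem_univ z)).map f.continuous)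
  obtain ⟨g, hg⟩ := exists_lift (_root_.IntMult.ptIdeal y).subschemeι f hrange
  have hgη : g (genericPoint Z) = genericPoint (_root_.IntMult.ptIdeal y).subscheme := by
    apply (_root_.IntMult.ptIdeal y).subschemeι.isClosedEmbedding.injective
    have h2 := (genericPoint_spec (_root_.IntMult.ptIdeal y).subscheme).image
      (_root_.IntMult.ptIdeal y).subschemeι.continuous
    rw [Set.image_univ, Devissage.Closure.range_ptIdeal, closure_closure] at h2
    show (g ≫ (_root_.IntMult.ptIdeal y).subschemeι) (genericPoint Z) = _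
    rw [hg, h2.eq isGenericPoint_closure]
    show π (J.subschemeι (genericPoint Z)) = y
    rw [hgen, hy']
  haveI := mono_unitToPush g hgη
  haveI hpm : (Coh.push (_root_.IntMult.ptIdeal y).subschemeι).PreservesMonomorphisms :=
    Functor.preservesMonomorphisms_of_adjunction
      (Scheme.Modules.pullbackPushforwardAdjunction (_root_.IntMult.ptIdeal y).subschemeι)
  let u : Cyc.closureStructureSheaf y ⟶ (Coh.push f).obj (Coh.structureModule Z) :=
    (Coh.push (_root_.IntMult.ptIdeal y).subschemeι).map (_root_.ClSub.unitToPush g) ≫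
      ((Scheme.Modules.pushforwardComp g (_root_.IntMult.ptIdeal y).subschemeι).app
        (Coh.structureModule Z)).hom ≫
      ((Scheme.Modules.pushforwardCongr hg).app (Coh.structureModule Z)).hom
  have hm₁ : Mono ((Coh.push (_root_.IntMult.ptIdeal y).subschemeι).map (_root_.ClSub.unitToPush g)) :=
    @Functor.map_mono _ _ _ _ _ hpm _ _ _ (mono_unitToPush g hgη)
  haveI : Mono u := @mono_comp _ _ _ _ _ _ hm₁ _ inferInstance
  have hdimZ : topologicalKrullDim Z ≤ r := by
    rw [(J.subschemeι.isClosedEmbedding.isEmbedding.toHomeomorph).isHomeomorph.topologicalKrullDim_eq,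
      Devissage.Closure.range_ptIdeal,
      VarDim.Basic.topologicalKrullDim_isGenericPoint (X' ↘ Spec (CommRingCat.of k))
        (isGenericPoint_closure (x := y')), hyd]
    exact_mod_cast hy
  have hLi := PicLoc.isInvertible_pullback f hL
  obtain ⟨K, hK⟩ := exists_h0_bound (k := k) (r := r) hdimZ hH hLi (Twist.isCoh_structureModule Z)
    ((Topology.IsInducing.subtypeVal.topologicalKrullDim_le).trans hdimZ)
  refine ⟨K, fun m => ?_⟩
  have hM := isInvertible_tensorPow hL m
  haveI : Mono (tmap (𝟙 (CohB1.tensorPow L m)) u) :=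
    (Twist.twistSeq_shortExact hM (Devissage.Basic.exists_ses_mono u)).mono_f
  refine (h0_le_of_mono (k := k) (Twist.isCoh_twist hM
    (Cyc.PP.Push.isCoh_push (p := f) (Twist.isCoh_structureModule Z))) (tmap (𝟙 _) u)).trans ?_
  let e : CohB1.tensorMod (CohB1.tensorPow L m) ((Coh.push f).obj (Coh.structureModule Z)) ≅
      (Coh.push f).obj (CohB1.tensorMod ((TensorMod.Pullback.pb f).obj (CohB1.tensorPow L m))
        (Coh.structureModule Z)) :=
    (Modules.ProjFormula.projIso f (Modules.DualBasis.hasDBases_of_isFinLocFree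
        (TensorMod.LocFree.of_rank (TensorMod.LocFree.of_isInvertible hM)))).app
        (Coh.structureModule Z)
  rw [h0_congr e, finrank_push_zero f rfl]
  exact le_of_eq_of_le (h0_congr (tensorIso (Ample.Pow.pullbackPow f L m) (Iso.refl _) ≪≫ comm _ _))
    (hK m)

/-- `h⁰(L^m ⊗ G) = O(m^r)` for `G` supported in dimension `≤ r`. -/
theorem exists_bound {r : ℕ} {L : X.Modules} (hL : PicF.IsInvertible L) (T : Closeds X)
    (hT : ∀ y ∈ T, VarDim.Basic.pdim (X ↘ Spec (CommRingCat.of k)) y ≤ r)
    (G : X.Modules) (hG : Devissage.Basic.CohIn (T : Set X) G) :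
    ∃ K : ℕ, ∀ m : ℕ, h0 k X (CohB1.tensorMod (CohB1.tensorPow L m) G) ≤ K * (m + 1) ^ r := by
  haveI := Curves.GlobalSections.isNoetherian_of_proper k X
  refine Nakai.SubDevissage.devissage
    (fun G => ∃ K : ℕ, ∀ m : ℕ, h0 k X (CohB1.tensorMod (CohB1.tensorPow L m) G) ≤ K * (m + 1) ^ r)
    T ⟨fun G hz => ⟨0, fun m => ?_⟩, fun S hS h₁ h₂ h₃ hQ₁ hQ₃ => ?_, fun g hg hA hB hQ => ?_⟩
    (fun y hy => ?_) G hG
  · have hz' : IsZero (CohB1.tensorMod (CohB1.tensorPow L m) G) := by
      rw [← Modules.Support.support_eq_empty_iff, Twist.support_twist (isInvertible_tensorPow hL m),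
        Modules.Support.support_eq_empty_iff.2 hz]
    haveI := PosLin.CohBound.subsingleton_HH_isZero (k := k) hz' 0
    simp [h0, Module.finrank_zero_of_subsingleton]
  · obtain ⟨K₁, hK₁⟩ := hQ₁
    obtain ⟨K₃, hK₃⟩ := hQ₃
    refine ⟨K₁ + K₃, fun m => ?_⟩
    have hM := isInvertible_tensorPow hL m
    refine le_trans (PosLin.CohBound.hd_mid_le (k := k) (Twist.twistSeq_shortExact hM hS)
      (Twist.isCoh_twist hM h₁.1) (Twist.isCoh_twist hM h₂.1) (Twist.isCoh_twist hM h₃.1) 0) ?_
    rw [add_mul]
    exact add_le_add (hK₁ m) (hK₃ m)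
  · obtain ⟨K, hK⟩ := hQ
    refine ⟨K, fun m => ?_⟩
    have hM := isInvertible_tensorPow hL m
    haveI : Mono (tmap (𝟙 (CohB1.tensorPow L m)) g) :=
      (Twist.twistSeq_shortExact hM (Devissage.Basic.exists_ses_mono g)).mono_f
    exact (h0_le_of_mono (k := k) (Twist.isCoh_twist hM hB.1) (tmap (𝟙 _) g)).trans (hK m)
  · have hO := PicLoc.isInvertible_structureModule X
    refine ⟨CohB1.tensorMod (Coh.structureModule X) (Cyc.closureStructureSheaf y),
      ⟨Twist.isCoh_twist hO (Devissage.Closure.isCoh_closureStructureSheaf y), by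
        rw [Twist.support_twist hO]
        exact Devissage.Closure.support_closureStructureSheaf y⟩, by
      rw [Twist.length_twist hO, Devissage.Closure.length_closureStructureSheaf y],
      Nakai.NumTrivial.pureAt_twist hO y, ?_⟩
    obtain ⟨K, hK⟩ := exists_bound_closure (k := k) y hL (hT y hy)
    exact ⟨K, fun m => (h0_congr (k := k) (tensorIso (Iso.refl _) (leftUnit _))).le.trans (hK m)⟩

end Groth.Agent.H84.SectionGrowth
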